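import Groth.Agent.L27.FppfCmp.LocExact
import Groth.Prelude.Def_CGrpSh2
import Mathlib.Algebra.Homology.DerivedCategory.Ext.ExactSequences
import Mathlib.Algebra.Homology.DerivedCategory.Ext.EnoughInjectives
import Mathlib.CategoryTheory.Sites.SheafCohomology.Basic
import Mathlib.CategoryTheory.Preadditive.Injective.Basic

/-!
# Internal Hom sheaves into injectives have no first cohomology
-/

universe u

open CategoryTheory CategoryTheory.Limits CategoryTheory.Abelian AlgebraicGeometry Opposite

set_option autoImplicit false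
set_option backward.defeqAttrib.useBackward true
set_option backward.isDefEq.respectTransparency false
set_option backward.isDefEq.respectTransparency.types false
set_option linter.style.haveILetI false
set_option maxHeartbeats 800000

noncomputable section

namespace Groth.L07.GaExt

variable {K : Precoverage Scheme.{u}} {X : Scheme.{u}}

local notation "J" => QuotSh.J K X

/-- sections of the kernel are the kernel of the sections -/
theorem sections_left_exact {Sh : ShortComplex (BigSite.Ab K X)} (hSh : Sh.ShortExact) (T : Over X) :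
    Function.Injective (Sh.f.hom.app (op T)) ∧
      ∀ x, Sh.g.hom.app (op T) x = 0 → ∃ n, Sh.f.hom.app (op T) n = x := by
  haveI := hSh.mono_f
  refine ⟨(AddCommGrpCat.mono_iff_injective _).1
    (inferInstanceAs (Mono ((Groth.L27.FppfCmp.secF T).map Sh.f))), fun x hx => ?_⟩
  obtain ⟨m, hm⟩ := Groth.L27.FppfCmp.exists_kernel_sec Sh.g T x hx
  let e := hSh.exact.lift (kernel.ι Sh.g) (kernel.condition Sh.g)
  refine ⟨e.hom.app (op T) m, Eq.trans ?_ hm⟩
  exact ConcreteCategory.congr_hom (congrArg (fun φ : kernel Sh.g ⟶ Sh.X₂ => φ.hom.app (op T))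
    (hSh.exact.lift_f (kernel.ι Sh.g) (kernel.condition Sh.g))) m

/-- sections are separated -/
theorem eq_of_cover (G : BigSite.Ab K X) {T : Over X} {R : Sieve T} (hR : R ∈ J T) (a b : G.obj.obj (op T))
    (h : ∀ (V : Over X) (c : V ⟶ T), R c → G.obj.map c.op a = G.obj.map c.op b) : a = b :=
  (((isSheaf_iff_isSheaf_of_type _ _).1
    (((sheafCompose J (forget AddCommGrpCat.{u + 1})).obj G).property)).isSeparated R hR).ext fun V c hc => h V c hc

/-- sections glue -/
theorem amalgamate (G : BigSite.Ab K X) {T : Over X} {R : Sieve T} (hR : R ∈ J T)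
    (x : ∀ (V : Over X) (c : V ⟶ T), R c → G.obj.obj (op V))
    (hx : ∀ (V V' : Over X) (b : V' ⟶ V) (c : V ⟶ T) (hc : R c) (hc' : R (b ≫ c)),
      G.obj.map b.op (x V c hc) = x V' (b ≫ c) hc') :
    ∃ z, ∀ (V : Over X) (c : V ⟶ T) (hc : R c), G.obj.map c.op z = x V c hc := by
  have hF := ((isSheaf_iff_isSheaf_of_type _ _).1 (((sheafCompose J (forget AddCommGrpCat.{u + 1})).obj G).property)) R hR
  let fam : Presieve.FamilyOfElements (G.obj ⋙ forget AddCommGrpCat.{u + 1}) R.arrows := x
  have hfam : fam.Compatible := Presieve.compatible_iff_sieveCompatible _ |>.2 fun V V' c b hc =>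
    (hx V V' b c hc _).symm
  exact ⟨hF.amalgamate fam hfam, fun V c hc => hF.valid_glue hfam c hc⟩

/-- first cohomology vanishes when global sections lift -/
theorem subsingleton_H_one_of_lift (N : BigSite.Ab K X)
    (h : ∀ (Sh : ShortComplex (BigSite.Ab K X)), Sh.ShortExact → Sh.X₁ = N →
      Function.Surjective (Sh.g.hom.app (op (Over.mk (𝟙 X))))) :
    Subsingleton (BigSite.H K X N 1) := by
  let T : ShortComplex (BigSite.Ab K X) :=
    ShortComplex.mk (Injective.ι N) (cokernel.π (Injective.ι N)) (cokernel.condition _)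
  have hT : T.ShortExact := { exact := ShortComplex.exact_of_g_is_cokernel _ (cokernelIsCokernel _) }
  suffices H : ∀ x : BigSite.H K X N 1, x = 0 from ⟨fun x y => (H x).trans (H y).symm⟩
  intro x
  obtain ⟨z, hz⟩ := Ext.covariant_sequence_exact₁ _ hT x (Ext.eq_zero_of_injective _) (zero_add 1)
  let hter : IsTerminal (Over.mk (𝟙 X)) := Over.mkIdTerminal
  obtain ⟨y, hy⟩ := h T hT rfl (Sheaf.H.equiv₀ T.X₃ hter z)
  have e : z = Sheaf.H.map T.g 0 ((Sheaf.H.equiv₀ T.X₂ hter).symm y) := by
    rw [Sheaf.H.equiv₀_symm_naturality, hy, AddEquiv.symm_apply_apply]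
  rw [← hz, e]
  show (Ext.comp _ (Ext.mk₀ T.g) (add_zero 0)).comp hT.extClass (zero_add 1) = 0
  rw [Ext.comp_assoc_of_second_deg_zero, hT.comp_extClass, Ext.comp_zero]

variable {F I : BigSite.Ab K X}

/-- the value of a local homomorphism -/
abbrev val {V W : Over X} (n : F.over V ⟶ I.over V) (t : W ⟶ V) :
    F.obj.obj (op W) →+ I.obj.obj (op W) :=
  (n.hom.app (op (Over.mk t))).hom

theorem val_map {V W W' : Over X} (n : F.over V ⟶ I.over V) (t : W ⟶ V) (k : W' ⟶ W)
    (s : F.obj.obj (op W)) : val n (k ≫ t) (F.obj.map k.op s) = I.obj.map k.op (val n t s) :=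
  NatTrans.naturality_apply n.hom (Over.homMk k : Over.mk (k ≫ t) ⟶ Over.mk t).op s

theorem val_restr {V V' W : Over X} (n : F.over V ⟶ I.over V) (a : V' ⟶ V) (t : W ⟶ V') :
    val ((HomSh.homSh J F I).obj.map a.op n) t = val n (t ≫ a) := rfl

/-- cohomology of an internal Hom into an injective vanishes in degree one -/
theorem subsingleton_H_one_homSh [Injective I] :
    Subsingleton (BigSite.H K X (HomSh.homSh J F I) 1) := by
  refine subsingleton_H_one_of_lift _ fun Sh hSh hN p => ?_
  obtain @⟨X₁, X₂, X₃, f, g, w⟩ := Sh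
  subst hN
  haveI := hSh.epi_g
  let T₀ : Over X := Over.mk (𝟙 X)
  let tm : ∀ T : Over X, T ⟶ T₀ := fun T => Over.mkIdTerminal.from T
  have tm_eq : ∀ {T T' : Over X} (a : T' ⟶ T), a ≫ tm T = tm T' := fun a => Over.mkIdTerminal.hom_ext _ _
  let P : Over X → Prop := fun T => ∃ j, g.hom.app (op T) j = X₃.obj.map (tm T).op p
  have hPmem : ∀ (T : Over X) (y : T ⟶ T₀),
      ((Presheaf.imageSieve g.hom p : Sieve T₀) y ↔ P T) := fun T y => by
    obtain rfl : y = tm T := Over.mkIdTerminal.hom_ext _ _
    rfl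
  have hcov : Presheaf.imageSieve g.hom p ∈ J T₀ :=
    haveI : Presheaf.IsLocallySurjective J g.hom :=
      (Sheaf.isLocallySurjective_iff_epi' _ g).2 (inferInstanceAs (Epi g))
    Presheaf.imageSieve_mem J g.hom p
  choose j hj using fun (T : Over X) (hT : P T) => hT
  obtain ⟨finj, fker⟩ : (∀ T : Over X, Function.Injective (f.hom.app (op T))) ∧
      ∀ (T : Over X) x, g.hom.app (op T) x = 0 → ∃ n, f.hom.app (op T) n = x :=
    ⟨fun T => (sections_left_exact hSh T).1, fun T => (sections_left_exact hSh T).2⟩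
  have hd : ∀ (V U : Over X) (hV : P V) (hU : P U) (a : V ⟶ U),
      ∃ n : F.over V ⟶ I.over V, f.hom.app (op V) n = j V hV - X₂.obj.map a.op (j U hU) := fun V U hV hU a => by
    obtain ⟨n, hn⟩ := fker V (j V hV - X₂.obj.map a.op (j U hU)) (by
      rw [map_sub, hj, NatTrans.naturality_apply g.hom a.op, hj, ← ConcreteCategory.comp_apply, ← Functor.map_comp,
        ← op_comp, tm_eq, sub_self])
    exact ⟨n, hn⟩
  choose δ hδ using hd
  let δ' : ∀ (V U : Over X), P V → P U → (V ⟶ U) → (HomSh.homSh J F I).obj.obj (op V) := δ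
  have hcoc : ∀ (W V U : Over X) (hW : P W) (hV : P V) (hU : P U) (b : W ⟶ V) (a : V ⟶ U),
      δ' W U hW hU (b ≫ a) = δ' W V hW hV b + (HomSh.homSh J F I).obj.map b.op (δ' V U hV hU a) := by
    intro W V U hW hV hU b a
    apply finj W
    refine (hδ W U hW hU (b ≫ a)).trans (Eq.symm ?_)
    refine (map_add _ _ _).trans ?_
    rw [hδ, NatTrans.naturality_apply f.hom b.op, hδ, map_sub, ← ConcreteCategory.comp_apply, ← Functor.map_comp,
      ← op_comp]
    abel
  -- the twisted extension of `F` by `I`
  let Fam : Over X → Type (u + 1) := fun U => ∀ (T : Over X), P T → (T ⟶ U) → I.obj.obj (op T)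
  let E : ∀ U : Over X, AddSubgroup (F.obj.obj (op U) × Fam U) := fun U =>
    { carrier := {sx | ∀ (V' V : Over X) (hV' : P V') (hV : P V) (k : V' ⟶ V) (h : V ⟶ U),
        sx.2 V' hV' (k ≫ h) - I.obj.map k.op (sx.2 V hV h) =
          val (δ V' V hV' hV k) (𝟙 V') (F.obj.map (k ≫ h).op sx.1)}
      zero_mem' := fun V' V hV' hV k h => by
        show (0 : I.obj.obj (op V')) - I.obj.map k.op 0 = val _ _ (F.obj.map (k ≫ h).op 0)
        rw [map_zero, map_zero, map_zero, sub_zero]
      add_mem' := fun {a b} ha hb V' V hV' hV k h => by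
        show (a.2 V' hV' (k ≫ h) + b.2 V' hV' (k ≫ h)) - I.obj.map k.op (a.2 V hV h + b.2 V hV h) =
          val _ _ (F.obj.map (k ≫ h).op (a.1 + b.1))
        rw [map_add, map_add, map_add, ← ha V' V hV' hV k h, ← hb V' V hV' hV k h]
        abel
      neg_mem' := fun {a} ha V' V hV' hV k h => by
        show -(a.2 V' hV' (k ≫ h)) - I.obj.map k.op (-(a.2 V hV h)) = val _ _ (F.obj.map (k ≫ h).op (-a.1))
        rw [map_neg, map_neg, map_neg, ← ha V' V hV' hV k h]
        abel }
  let Ep : (Over X)ᵒᵖ ⥤ AddCommGrpCat.{u + 1} :=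
    { obj := fun U => AddCommGrpCat.of (E U.unop)
      map := fun {U U'} c => AddCommGrpCat.ofHom
        { toFun := fun sx => ⟨(F.obj.map c sx.1.1, fun T hT h => sx.1.2 T hT (h ≫ c.unop)),
            fun V' V hV' hV k h => by
              show sx.1.2 V' hV' ((k ≫ h) ≫ c.unop) - I.obj.map k.op (sx.1.2 V hV (h ≫ c.unop)) =
                val _ _ (F.obj.map (k ≫ h).op (F.obj.map c sx.1.1))
              rw [Category.assoc, sx.2 V' V hV' hV k (h ≫ c.unop), ← ConcreteCategory.comp_apply, ← Functor.map_comp,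
                ← Category.assoc]
              rfl⟩
          map_zero' := Subtype.ext (Prod.ext (map_zero _) rfl)
          map_add' := fun a b => Subtype.ext (Prod.ext (map_add _ _ _) rfl) }
      map_id := fun U => AddCommGrpCat.ext fun sx => Subtype.ext (Prod.ext
        (ConcreteCategory.congr_hom (F.obj.map_id U) sx.1.1)
        (funext fun T => funext fun hT => funext fun h => congrArg (sx.1.2 T hT) (Category.comp_id h)))
      map_comp := fun {U U' U''} c c' => AddCommGrpCat.ext fun sx => Subtype.ext (Prod.ext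
        (ConcreteCategory.congr_hom (F.obj.map_comp c c') sx.1.1)
        (funext fun T => funext fun hT => funext fun h =>
          congrArg (sx.1.2 T hT) (Category.assoc h c'.unop c.unop).symm)) }
  let incE : I.obj ⟶ Ep :=
    { app := fun U => AddCommGrpCat.ofHom
        { toFun := fun y => ⟨(0, fun T _ h => I.obj.map h.op y), fun V' V hV' hV k h => by
            show I.obj.map (k ≫ h).op y - I.obj.map k.op (I.obj.map h.op y) = val _ _ (F.obj.map (k ≫ h).op 0)
            rw [op_comp, Functor.map_comp, ConcreteCategory.comp_apply, sub_self, map_zero, map_zero]⟩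
          map_zero' := Subtype.ext (Prod.ext rfl (funext fun T => funext fun hT => funext fun h => map_zero _))
          map_add' := fun a b => Subtype.ext (Prod.ext (add_zero _).symm
            (funext fun T => funext fun hT => funext fun h => map_add _ _ _)) }
      naturality := fun {U U'} c => AddCommGrpCat.ext fun y => Subtype.ext (Prod.ext (map_zero _).symm
        (funext fun T => funext fun hT => funext fun h =>
          ((ConcreteCategory.congr_hom (I.obj.map_comp c h.op) y)).symm)) }
  haveI : Mono incE := by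
    haveI : ∀ U, Mono (incE.app U) := fun U => by
      refine (AddCommGrpCat.mono_iff_injective _).2 fun y y' hyy' => ?_
      refine Groth.L07.GaExt.eq_of_cover I (GrothendieckTopology.pullback_stable (QuotSh.J K X) (tm U.unop) hcov) y y' fun V a ha => ?_
      exact congrFun (congrFun (congrFun (congrArg (fun sx : E U.unop => sx.1.2) hyy') V)
        ((hPmem V _).1 ha)) a
    exact NatTrans.mono_of_mono_app _
  haveI : Injective I.obj :=
    Injective.injective_of_adjoint (sheafificationAdjunction J AddCommGrpCat.{u + 1}) I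
  let r : Ep ⟶ I.obj := Injective.factorThru (𝟙 I.obj) incE
  have hr : ∀ (U : Over X) (y : I.obj.obj (op U)), r.app (op U) (incE.app (op U) y) = y := fun U y =>
    ConcreteCategory.congr_hom (congrArg (fun φ => NatTrans.app φ (op U))
      (Injective.comp_factorThru (𝟙 I.obj) incE)) y
  have hx0 : ∀ (T : Over X) (hT : P T) (U : Over X) (a : U ⟶ T) (s : F.obj.obj (op U)),
      ((s, fun W hW h => val (δ W T hW hT (h ≫ a)) (𝟙 W) (F.obj.map h.op s)) : F.obj.obj (op U) × Fam U) ∈ E U :=
    fun T hT U a s V' V hV' hV k h => by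
      show val (δ V' T hV' hT ((k ≫ h) ≫ a)) (𝟙 V') (F.obj.map (k ≫ h).op s) -
        I.obj.map k.op (val (δ V T hV hT (h ≫ a)) (𝟙 V) (F.obj.map h.op s)) = _
      rw [Category.assoc k h a, show δ V' T hV' hT (k ≫ h ≫ a) = δ' V' T hV' hT (k ≫ h ≫ a) from rfl,
        hcoc V' V T hV' hV hT k (h ≫ a), op_comp, Functor.map_comp, ConcreteCategory.comp_apply, ← val_map]
      refine sub_eq_of_eq_add ?_
      show val _ (𝟙 V') _ + val ((HomSh.homSh J F I).obj.map k.op (δ V T hV hT (h ≫ a))) (𝟙 V') _ = _
      rw [val_restr]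
      refine congrArg (_ + ·) ?_
      exact HomSh.app_over_mk_congr _ _ ((Category.id_comp k).trans (Category.comp_id k).symm) _
  let x0 : ∀ (T : Over X) (hT : P T) (U : Over X) (a : U ⟶ T), F.obj.obj (op U) →+ E U := fun T hT U a =>
    { toFun := fun s => ⟨_, hx0 T hT U a s⟩
      map_zero' := Subtype.ext (Prod.ext rfl (funext fun W => funext fun hW => funext fun h =>
        (congrArg (val (δ W T hW hT (h ≫ a)) (𝟙 W)) (map_zero (F.obj.map h.op).hom)).trans (map_zero _)))
      map_add' := fun s s' => Subtype.ext (Prod.ext rfl (funext fun W => funext fun hW => funext fun h =>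
        (congrArg (val (δ W T hW hT (h ≫ a)) (𝟙 W)) (map_add (F.obj.map h.op).hom s s')).trans (map_add _ _ _))) }
  let n₀ : ∀ (T : Over X) (_ : P T), F.over T ⟶ I.over T := fun T hT =>
    ⟨{ app := fun U => AddCommGrpCat.ofHom ((r.app (op U.unop.left)).hom.comp (x0 T hT U.unop.left U.unop.hom))
       naturality := fun {U U'} c => AddCommGrpCat.ext fun s => by
         show r.app (op U'.unop.left) (x0 T hT U'.unop.left U'.unop.hom (F.obj.map c.unop.left.op s)) =
           I.obj.map c.unop.left.op (r.app (op U.unop.left) (x0 T hT U.unop.left U.unop.hom s))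
         refine Eq.trans (congrArg (r.app (op U'.unop.left)) ?_)
           (NatTrans.naturality_apply r c.unop.left.op (x0 T hT U.unop.left U.unop.hom s))
         refine Subtype.ext (Prod.ext rfl (funext fun W => funext fun hW => funext fun h => ?_))
         show val (δ W T hW hT (h ≫ U'.unop.hom)) (𝟙 W) (F.obj.map h.op (F.obj.map c.unop.left.op s)) =
           val (δ W T hW hT ((h ≫ c.unop.left) ≫ U.unop.hom)) (𝟙 W) (F.obj.map (h ≫ c.unop.left).op s)
         rw [Category.assoc, Over.w, op_comp, Functor.map_comp, ConcreteCategory.comp_apply] }⟩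
  let n : ∀ (T : Over X) (_ : P T), (HomSh.homSh J F I).obj.obj (op T) := n₀
  have hn : ∀ (T' T : Over X) (hT' : P T') (hT : P T) (k : T' ⟶ T),
      n T' hT' - (HomSh.homSh J F I).obj.map k.op (n T hT) = - δ' T' T hT' hT k := by
    intro T' T hT' hT k
    refine Sheaf.hom_ext (NatTrans.ext (funext fun U => AddCommGrpCat.ext fun s => ?_))
    obtain ⟨U⟩ := U
    show r.app (op U.left) (x0 T' hT' U.left U.hom s) - r.app (op U.left) (x0 T hT U.left (U.hom ≫ k) s) =
      - val (δ T' T hT' hT k) U.hom s
    rw [← map_sub, ← hr U.left (- val (δ T' T hT' hT k) U.hom s)]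
    refine congrArg (r.app (op U.left)) (Subtype.ext (Prod.ext (sub_self _)
      (funext fun W => funext fun hW => funext fun h => ?_)))
    show val (δ W T' hW hT' (h ≫ U.hom)) (𝟙 W) (F.obj.map h.op s) -
      val (δ W T hW hT (h ≫ U.hom ≫ k)) (𝟙 W) (F.obj.map h.op s) =
      I.obj.map h.op (- val (δ T' T hT' hT k) U.hom s)
    rw [← Category.assoc, show δ W T hW hT ((h ≫ U.hom) ≫ k) = δ' W T hW hT ((h ≫ U.hom) ≫ k) from rfl,
      hcoc W T' T hW hT' hT (h ≫ U.hom) k, map_neg, ← val_map]
    refine sub_eq_iff_eq_add.2 (eq_neg_add_iff_add_eq.2 ?_)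
    show _ + val _ (𝟙 W) _ = val _ (𝟙 W) _ + val ((HomSh.homSh J F I).obj.map (h ≫ U.hom).op (δ T' T hT' hT k)) (𝟙 W) _
    rw [val_restr, add_comm]
    refine congrArg (_ + ·) ?_
    exact HomSh.app_over_mk_congr _ _ (Category.id_comp _).symm _
  -- the corrected lifts
  let j' : ∀ (T : Over X) (hT : P T), X₂.obj.obj (op T) := fun T hT => j T hT + f.hom.app (op T) (n T hT)
  have hj' : ∀ (T' T : Over X) (hT' : P T') (hT : P T) (k : T' ⟶ T), X₂.obj.map k.op (j' T hT) = j' T' hT' := by
    intro T' T hT' hT k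
    show X₂.obj.map k.op (j T hT + f.hom.app (op T) (n T hT)) = j T' hT' + f.hom.app (op T') (n T' hT')
    rw [map_add, ← NatTrans.naturality_apply f.hom k.op,
      show (HomSh.homSh J F I).obj.map k.op (n T hT) = n T' hT' + δ' T' T hT' hT k by
        have := hn T' T hT' hT k
        rw [sub_eq_iff_eq_add] at this
        rw [this]; abel,
      map_add, hδ]
    abel
  obtain ⟨z, hz⟩ := amalgamate X₂ hcov (fun T y hy => j' T ((hPmem T y).1 hy)) (fun T T' b y hy hy' =>
    hj' T' T _ _ b)
  refine ⟨z, eq_of_cover X₃ hcov _ _ fun T y hy => ?_⟩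
  rw [← NatTrans.naturality_apply g.hom y.op, hz T y hy]
  show g.hom.app (op T) (j T _ + f.hom.app (op T) (n T _)) = _
  rw [map_add, hj, ← ConcreteCategory.comp_apply, ← NatTrans.comp_app,
    show f.hom ≫ g.hom = 0 from congrArg (fun φ => φ.hom) w, show tm T = y from Over.mkIdTerminal.hom_ext _ _]
  exact add_zero _

end Groth.L07.GaExt
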