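import Groth.Agent.L06.PicHomotopy.Seminormal
import Groth.Agent.L25.GaPts
import Mathlib.AlgebraicGeometry.Morphisms.ClosedImmersion
import Mathlib.AlgebraicGeometry.AffineSpace

/-!
# Invertible modules on the affine line over a ring with surjective Frobenius
-/

universe u

open CategoryTheory CategoryTheory.Limits AlgebraicGeometry Opposite TopologicalSpace
open MonoidalCategory CartesianMonoidalCategory MonObj
open Groth.L18.Frame (rs ro rs_rs rs_self rs_smul ro_ro ro_self IsFrame pull pull_rs pull_smul)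

set_option autoImplicit false
set_option backward.isDefEq.respectTransparency false
set_option backward.isDefEq.respectTransparency.types false
set_option linter.style.haveILetI false
set_option maxHeartbeats 800000

noncomputable section

namespace Groth.L07.GaExt

/-- perfect reduced rings are seminormal -/
theorem isSeminormalRing_of_perfect (p : ℕ) [hp : Fact p.Prime] (A : Type u) [CommRing A] [_root_.IsReduced A]
    (hp0 : (p : A) = 0) (hsurj : ∀ a : A, ∃ b, b ^ p = a) : HTop.IsSeminormalRing A := by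
  have hinj : ∀ a b : A, a ^ p = b ^ p → a = b := fun a b h => by
    obtain ⟨r, hr⟩ := exists_add_pow_prime_eq hp.out (a - b) b
    rw [sub_add_cancel, hp0, zero_mul, zero_mul, zero_mul, add_zero, h, right_eq_add] at hr
    exact sub_eq_zero.1 (eq_zero_of_pow_eq_zero hr)
  obtain ⟨i, j, hij⟩ : ∃ i j, 2 * i + 3 * j = p := by
    rcases hp.out.eq_two_or_odd with h | h
    · exact ⟨1, 0, by omega⟩
    · exact ⟨(p - 3) / 2, 1, by have := hp.out.two_le; omega⟩
  intro x y hxy
  obtain ⟨a, ha⟩ := hsurj (x ^ i * y ^ j)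
  refine ⟨a, ⟨hinj _ _ ?_, hinj _ _ ?_⟩, fun b ⟨hb2, hb3⟩ => hinj _ _ ?_⟩
  · rw [← pow_mul, mul_comm, pow_mul, ha, mul_pow, ← pow_mul, ← pow_mul, mul_comm j 2, pow_mul y 2 j, ← hxy,
      ← pow_mul, ← pow_add, mul_comm i 2, hij]
  · rw [← pow_mul, mul_comm, pow_mul, ha, mul_pow, ← pow_mul, ← pow_mul, mul_comm i 3, pow_mul x 3 i, hxy,
      ← pow_mul, ← pow_add, mul_comm j 3, hij]
  · rw [ha, hb2, hb3, ← pow_mul, ← pow_mul, ← pow_add, hij]

/-- triviality lifts along nil thickenings of affine schemes -/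
theorem nonempty_iso_of_pullback_trivial {X Y : Scheme.{u}} [IsAffine X] [IsAffine Y] (i : Y ⟶ X) [Surjective i]
    (hi : Function.Surjective i.appTop) {L : X.Modules} (hL : PicF.IsInvertible L)
    (h : Nonempty ((Scheme.Modules.pullback i).obj L ≅ Coh.structureModule Y)) :
    Nonempty (L ≅ Coh.structureModule X) := by
  classical
  obtain ⟨ψ⟩ := h
  have hone : IsFrame (Coh.structureModule Y) ⊤ (1 : Γ(Y, ⊤)) := fun V h => by
    refine (Eq.mpr (congrArg Function.Bijective (funext fun c => ?_)) Function.bijective_id)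
    show c * ro h 1 = c
    rw [ro, map_one]
    exact _root_.mul_one c
  set L' := (Scheme.Modules.pullback i).obj L with hL'
  obtain ⟨σ, hσ⟩ : ∃ σ : Γ(L', ⊤), IsFrame L' ⊤ σ := ⟨_, Groth.L12.CurveFam.isFrame_map ψ.symm hone⟩
  choose t O hxO hO using Groth.L06.PicHomotopy.exists_globalFrame hL
  choose c hc using fun x : X => hσ.exists_coeff le_rfl (pull i L ⊤ (t x))
  simp only [rs_self] at hc
  have hspan : Ideal.span (Set.range c) = ⊤ := by
    rw [← (isAffineOpen_top Y).iSup_basicOpen_eq_self_iff, eq_top_iff]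
    intro y _
    refine Opens.mem_iSup.2 ⟨⟨_, i y, rfl⟩, ?_⟩
    have h1 := (hO (i y)).pullback i L
    rw [← pull_rs i L (le_top : O (i y) ≤ ⊤), ← hc (i y), rs_smul] at h1
    have hu := Groth.L18.Frame.isUnit_of_isFrame (hσ.mono le_top) h1
    refine (Y.mem_basicOpen _ y (show y ∈ (⊤ : Y.Opens) from trivial)).2 ?_
    have := hu.map (Y.presheaf.germ (i ⁻¹ᵁ O (i y)) y (hxO (i y))).hom
    exact Eq.mp (congrArg IsUnit (TopCat.Presheaf.germ_res_apply Y.presheaf _ _ _ _)) this
  obtain ⟨d, hd⟩ := (Finsupp.mem_ideal_span_range_iff_exists_finsupp).1 ((Ideal.eq_top_iff_one _).1 hspan)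
  choose d' hd' using fun x => hi (d x)
  let m : Γ(L, ⊤) := ∑ x ∈ d.support, d' x • t x
  have hm : pull i L ⊤ m = σ := by
    have e : pull i L ⊤ m = ∑ x ∈ d.support, (show Γ(Y, i ⁻¹ᵁ ⊤) from d x) • pull i L ⊤ (t x) := by
      show pull i L ⊤ (∑ x ∈ d.support, d' x • t x) = _
      rw [show pull i L ⊤ (∑ x ∈ d.support, d' x • t x) = ∑ x ∈ d.support, pull i L ⊤ (d' x • t x) from
        map_sum (((Scheme.Modules.pullbackPushforwardAdjunction i).unit.app L).app ⊤).hom _ _]
      exact Finset.sum_congr rfl fun x _ => by rw [pull_smul, ← hd' x]; rfl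
    rw [e]
    simp only [← hc, smul_smul]
    rw [← Finset.sum_smul]
    rw [show ∑ x ∈ d.support, d x * c x = 1 from hd, one_smul]
  refine Groth.L08.Cube.nonempty_iso_of_frame_top (σ := m) ?_
  have hloc : ∀ x : X, ∃ U : X.Opens, x ∈ U ∧ IsFrame L U (rs L le_top m) := fun x => by
    obtain ⟨a, ha⟩ := (hO x).exists_coeff le_rfl (rs L le_top m)
    rw [rs_self] at ha
    obtain ⟨y, rfl⟩ := i.surjective x
    refine Groth.L06.PicHomotopy.exists_frame_of_isUnit_germ (hO (i y)) ha ?_
    show y ∈ i ⁻¹ᵁ X.basicOpen a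
    rw [Scheme.preimage_basicOpen]
    have h1 := congrArg (pull i L (O (i y))) ha
    rw [pull_smul, ← pull_rs i L (le_top : O (i y) ≤ ⊤), ← pull_rs i L (le_top : O (i y) ≤ ⊤), hm, ← hc (i y),
      rs_smul, smul_smul] at h1
    have h2 : i.app (O (i y)) a * ro le_top (c (i y)) = 1 :=
      (hσ.mono le_top).inj le_rfl (by rw [rs_self, one_smul]; exact h1)
    refine (Y.mem_basicOpen _ y (hxO (i y))).2 ?_
    exact (IsUnit.of_mul_eq_one _ h2).map _
  choose U hxU hU using hloc
  exact IsFrame.of_cover U (fun _ => le_top) (fun x _ => Opens.mem_iSup.2 ⟨x, hxU x⟩) hU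

section Line

variable {X : Scheme.{u}}

/-- affine space as an object over the base -/
abbrev lineOver (X : Scheme.{u}) : Over X := Over.mk (Groth.L06.PicHomotopy.prA PUnit.{u + 1} X)

/-- from the affine line to the additive group -/
def toGa : lineOver X ⟶ Red.Ga X :=
  Groth.L25.GaPts.ptOfElt (AffineSpace.coord X PUnit.unit)

/-- from the additive group to the affine line -/
def ofGa : Red.Ga X ⟶ lineOver X :=
  Over.homMk (AffineSpace.homOfVector (Red.Ga X).hom fun _ => Red.gaFn (𝟙 (Red.Ga X)))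
    (AffineSpace.homOfVector_over _ _)

theorem ofGa_toGa : ofGa ≫ toGa = 𝟙 (Red.Ga X) := by
  rw [toGa, Groth.L25.GaPts.ptOfElt_comp]
  refine (congrArg Groth.L25.GaPts.ptOfElt ?_).trans (Groth.L25.GaPts.ptOfElt_gaFn _)
  exact AffineSpace.homOfVector_appTop_coord _ _ _

theorem zero_toGa : (Over.homMk (Groth.L06.PicHomotopy.zeroSec PUnit.{u + 1} X)
      (Groth.L06.PicHomotopy.zeroSec_pr _) : 𝟙_ (Over X) ⟶ lineOver X) ≫ toGa = 1 := by
  rw [toGa, Groth.L25.GaPts.ptOfElt_comp]
  refine (congrArg Groth.L25.GaPts.ptOfElt ?_).trans (Groth.L25.GaPts.ptOfElt_gaFn _)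
  exact (AffineSpace.homOfVector_appTop_coord _ _ _).trans (Groth.L25.GaPts.gaFn_one (T := 𝟙_ (Over X))).symm

end Line

/-- invertible modules on the additive group which are trivial along the zero section are trivial -/
theorem nonempty_iso_Ga (p : ℕ) [Fact p.Prime] (R : Type u) [CommRing R] [CharP R p]
    (hF : Function.Surjective (frobenius R p)) {L : (Red.Ga (Spec (CommRingCat.of R))).left.Modules}
    (hL : PicF.IsInvertible L)
    (h0 : Nonempty ((Scheme.Modules.pullback (1 : 𝟙_ (Over (Spec (CommRingCat.of R))) ⟶ Red.Ga _).left).obj L ≅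
      Coh.structureModule _)) :
    Nonempty (L ≅ Coh.structureModule _) := by
  let X := Spec (CommRingCat.of R)
  let A : CommRingCat.{u} := CommRingCat.of (R ⧸ nilradical R)
  let ρ : CommRingCat.of R ⟶ A := CommRingCat.ofHom (Ideal.Quotient.mk (nilradical R))
  haveI : _root_.IsReduced A :=
    (Ideal.isRadical_iff_quotient_reduced (nilradical R)).1 (Ideal.radical_isRadical _)
  haveI : IsClosedImmersion (Spec.map ρ) := IsClosedImmersion.spec_of_surjective ρ Ideal.Quotient.mk_surjective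
  haveI : Surjective (Spec.map ρ) := ⟨fun x => by
    have hx : x ∈ Set.range (PrimeSpectrum.comap (Ideal.Quotient.mk (nilradical R))) := by
      rw [range_comap_of_surjective _ _ Ideal.Quotient.mk_surjective, Ideal.mk_ker,
        PrimeSpectrum.mem_zeroLocus]
      exact nilradical_le_prime x.asIdeal
    exact hx⟩
  have hpA : (p : A) = 0 :=
    (map_natCast (Ideal.Quotient.mk (nilradical R)) p).symm.trans (by rw [CharP.cast_eq_zero]; exact map_zero _)
  have hrt : ∀ a : A, ∃ b, b ^ p = a := fun a => by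
    obtain ⟨r, rfl⟩ := Ideal.Quotient.mk_surjective a
    obtain ⟨s, hs⟩ := hF r
    exact ⟨Ideal.Quotient.mk _ s, (map_pow _ _ _).symm.trans (congrArg _ hs)⟩
  haveI : IsReduced (Spec A) := inferInstance
  have hsX : HTop.IsSeminormal (Spec A) := fun x =>
    ⟨⟨⊤, isAffineOpen_top _⟩, trivial, isSeminormalRing_of_perfect p Γ(Spec A, ⊤)
      ((map_natCast (Scheme.ΓSpecIso A).inv.hom p).symm.trans (by rw [hpA]; exact map_zero _)) fun a => by
        obtain ⟨b, hb⟩ := hrt ((Scheme.ΓSpecIso A).hom a)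
        exact ⟨(Scheme.ΓSpecIso A).inv b, by rw [← map_pow, hb, Iso.hom_inv_id_apply]⟩⟩
  let i : 𝔸(PUnit.{u + 1}; Spec A) ⟶ 𝔸(PUnit.{u + 1}; X) := AffineSpace.map _ (Spec.map ρ)
  haveI : IsClosedImmersion i :=
    MorphismProperty.of_isPullback (AffineSpace.isPullback_map (n := PUnit.{u + 1}) (Spec.map ρ)).flip inferInstance
  haveI : Surjective i :=
    MorphismProperty.of_isPullback (AffineSpace.isPullback_map (n := PUnit.{u + 1}) (Spec.map ρ)).flip inferInstance
  haveI : IsAffine 𝔸(PUnit.{u + 1}; X) := inferInstance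
  haveI : IsAffine 𝔸(PUnit.{u + 1}; Spec A) := inferInstance
  let L₁ := (Scheme.Modules.pullback (toGa (X := X)).left).obj L
  have hL₁ : PicF.IsInvertible L₁ := Groth.L18.Ample.isInvertible_pullback _ hL
  let zs := Groth.L06.PicHomotopy.zeroSec PUnit.{u + 1} (Spec A)
  have hz : zs ≫ i ≫ (toGa (X := X)).left = Spec.map ρ ≫ (1 : 𝟙_ (Over X) ⟶ Red.Ga X).left := by
    rw [← zero_toGa (X := X), Over.comp_left]
    show zs ≫ i ≫ _ = Spec.map ρ ≫ Groth.L06.PicHomotopy.zeroSec PUnit.{u + 1} X ≫ _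
    rw [← Category.assoc, ← Category.assoc]
    congr 1
    refine AffineSpace.hom_ext ?_ fun k => ?_
    · simp [zs, i, Groth.L06.PicHomotopy.zeroSec]
      exact (Category.comp_id _).symm
    · simp [zs, i, Groth.L06.PicHomotopy.zeroSec, AffineSpace.homOfVector_appTop_coord]
  have h1 : Nonempty ((Scheme.Modules.pullback i).obj L₁ ≅ Coh.structureModule _) := by
    refine Groth.L06.PicHomotopy.nonempty_iso_structureModule PUnit.{u + 1}
      (Groth.L18.Ample.isInvertible_pullback _ hL₁)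
      (fun x _ hM => Groth.L06.PicHomotopy.nonempty_iso_line _ (Groth.L06.PicHomotopy.isSeminormalRing_stalk hsX x) hM) ?_
    obtain ⟨φ⟩ := h0
    exact ⟨(Scheme.Modules.pullbackComp zs i).app L₁ ≪≫ (Scheme.Modules.pullbackComp (zs ≫ i) _).app L ≪≫
      (Scheme.Modules.pullbackCongr ((Category.assoc _ _ _).trans hz)).app L ≪≫
      ((Scheme.Modules.pullbackComp _ _).app L).symm ≪≫ (Scheme.Modules.pullback (Spec.map ρ)).mapIso φ ≪≫
      PicLoc.pullbackStructureIso (Spec.map ρ)⟩
  obtain ⟨e⟩ := nonempty_iso_of_pullback_trivial i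
    (IsClosedImmersion.isAffine_surjective_of_isAffine i).2 hL₁ h1
  exact ⟨((Scheme.Modules.pullbackId _).app L).symm ≪≫
    (Scheme.Modules.pullbackCongr (congrArg (fun k : Red.Ga X ⟶ Red.Ga X => k.left) (ofGa_toGa (X := X))).symm).app L ≪≫
    ((Scheme.Modules.pullbackComp (ofGa (X := X)).left (toGa (X := X)).left).app L).symm ≪≫
    (Scheme.Modules.pullback (ofGa (X := X)).left).mapIso e ≪≫ PicLoc.pullbackStructureIso _⟩

end Groth.L07.GaExt
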