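import Groth.Agent.L07.GaExt.ExtVanish
import Mathlib.Algebra.Homology.DerivedCategory.Ext.ExactSequences

/-!
# Extensions of iterated extensions of the additive group
-/

universe u

open CategoryTheory CategoryTheory.Limits CategoryTheory.Abelian AlgebraicGeometry MonObj

set_option autoImplicit false
set_option backward.isDefEq.respectTransparency false
set_option backward.isDefEq.respectTransparency.types false
set_option linter.style.haveILetI false

noncomputable section

namespace Groth.L07.GaExt

/-- extensions vanish along a tower -/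
theorem subsingleton_ext_one_tower {X : Scheme.{u}} (M : BigSite.Ab Scheme.fppfPrecoverage X) (n : ℕ)
    (A : Fin (n + 1) → BigSite.Ab Scheme.fppfPrecoverage X) (Q : BigSite.Ab Scheme.fppfPrecoverage X)
    (i : ∀ j : Fin n, A j.castSucc ⟶ A j.succ) (p : ∀ j : Fin n, A j.succ ⟶ Q) (w : ∀ j, i j ≫ p j = 0)
    (hex : ∀ j, (ShortComplex.mk (i j) (p j) (w j)).ShortExact) (h0 : IsZero (A 0))
    (hQ : Subsingleton (Abelian.Ext.{u + 1} Q M 1)) (j : Fin (n + 1)) :
    Subsingleton (Abelian.Ext.{u + 1} (A j) M 1) := by
  suffices H : ∀ x : Abelian.Ext.{u + 1} (A j) M 1, x = 0 from ⟨fun x y => (H x).trans (H y).symm⟩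
  induction j using Fin.induction with
  | zero =>
    intro x
    rw [← Ext.mk₀_id_comp x, h0.eq_of_src (𝟙 _) 0, Ext.mk₀_zero, Ext.zero_comp]
  | succ j ih =>
    intro x
    obtain ⟨y, hy⟩ := Ext.contravariant_sequence_exact₂ (hex j) M x (ih _)
    rw [← hy, Subsingleton.elim y 0, Ext.comp_zero]

end Groth.L07.GaExt
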