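import Groth.Agent.L07.GaExt.PicSection
import Groth.Agent.L07.GaExt.PerfectPic
import Groth.Agent.L07.GaExt.Tower
import Groth.Agent.L07.GmFppf.Affine
import Groth.Agent.L25.GaGmSplit

/-!
# Extensions of the additive group by the multiplicative group when Frobenius is surjective
-/

universe u

open CategoryTheory CategoryTheory.Limits CategoryTheory.Abelian AlgebraicGeometry Opposite
open MonoidalCategory CartesianMonoidalCategory MonObj

set_option autoImplicit false
set_option backward.defeqAttrib.useBackward true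
set_option backward.isDefEq.respectTransparency false
set_option backward.isDefEq.respectTransparency.types false
set_option linter.style.haveILetI false
set_option maxHeartbeats 1000000
set_option synthInstance.maxHeartbeats 200000

noncomputable section

namespace Groth.L07.GaExt

local notation "Kf" => Scheme.fppfPrecoverage

variable {R : Type u} [CommRing R]

/-- constants on an object over an affine base -/
def cst (T : Over (Spec (CommRingCat.of R))) : R →+* Γ(T.left, ⊤) := (Groth.L07.GmFppf.rh T.hom).hom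

theorem fn_cst {T T' : Over (Spec (CommRingCat.of R))} (a : T' ⟶ T) (r : R) : fn a (cst T r) = cst T' r := by
  show (Groth.L07.GmFppf.rh T.hom ≫ a.left.appTop) r = Groth.L07.GmFppf.rh T'.hom r
  rw [← Groth.L07.GmFppf.rh_comp, Over.w]

theorem fn_eval₂ {n : ℕ} {T T' : Over (Spec (CommRingCat.of R))} (a : T' ⟶ T) (v : Fin n → Γ(T.left, ⊤))
    (h : MvPolynomial (Fin n) R) :
    fn a (MvPolynomial.eval₂ (cst T) v h) = MvPolynomial.eval₂ (cst T') (fun i => fn a (v i)) h := by
  rw [show cst T' = (fn a).hom.comp (cst T) from RingHom.ext fun r => (fn_cst a r).symm]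
  exact MvPolynomial.eval₂_comp_left (fn a).hom (cst T) v h

/-- affine space as an object -/
abbrev polyOb (R : Type u) [CommRing R] (n : ℕ) : Over (Spec (CommRingCat.of R)) :=
  Over.mk (Spec.map (CommRingCat.ofHom (MvPolynomial.C : R →+* MvPolynomial (Fin n) R)))

/-- functions on affine space -/
abbrev polyFn {n : ℕ} : MvPolynomial (Fin n) R →+* Γ((polyOb R n).left, ⊤) :=
  (Scheme.ΓSpecIso (CommRingCat.of (MvPolynomial (Fin n) R))).inv.hom

theorem polyFn_injective {n : ℕ} : Function.Injective (polyFn (R := R) (n := n)) :=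
  (Scheme.ΓSpecIso (CommRingCat.of (MvPolynomial (Fin n) R))).commRingCatIsoToRingEquiv.symm.injective

theorem cst_polyOb (n : ℕ) : cst (polyOb R n) = (polyFn (R := R) (n := n)).comp MvPolynomial.C :=
  congrArg CommRingCat.Hom.hom (Groth.L07.GmFppf.rh_specMap (CommRingCat.ofHom MvPolynomial.C))

theorem polyFn_eq_eval₂ {m n : ℕ} (g : Fin n → MvPolynomial (Fin m) R) (h : MvPolynomial (Fin n) R) :
    polyFn (MvPolynomial.aeval g h) = MvPolynomial.eval₂ (cst (polyOb R m)) (fun i => polyFn (g i)) h := by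
  rw [MvPolynomial.aeval_def, cst_polyOb]
  exact MvPolynomial.eval₂_comp_left polyFn MvPolynomial.C g h

/-- the point given by functions -/
def ev {n : ℕ} {T : Over (Spec (CommRingCat.of R))} (v : Fin n → Γ(T.left, ⊤)) : T ⟶ polyOb R n :=
  Over.homMk (T.left.toSpecΓ ≫ Spec.map (CommRingCat.ofHom (MvPolynomial.eval₂Hom (cst T) v))) (by
    show (_ ≫ Spec.map _) ≫ Spec.map _ = T.hom
    rw [Category.assoc, ← Spec.map_comp,
      show CommRingCat.ofHom (MvPolynomial.C : R →+* MvPolynomial (Fin n) R) ≫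
        CommRingCat.ofHom (MvPolynomial.eval₂Hom (cst T) v) = Groth.L07.GmFppf.rh T.hom from
        CommRingCat.hom_ext (RingHom.ext fun r => MvPolynomial.eval₂_C (cst T) v r)]
    exact Groth.L07.GmFppf.toSpecΓ_rh T.hom)

theorem fn_ev {n : ℕ} {T : Over (Spec (CommRingCat.of R))} (v : Fin n → Γ(T.left, ⊤)) (h : MvPolynomial (Fin n) R) :
    fn (ev v) (polyFn h) = MvPolynomial.eval₂ (cst T) v h := by
  show Groth.L07.GmFppf.rh (T.left.toSpecΓ ≫ Spec.map (CommRingCat.ofHom (MvPolynomial.eval₂Hom (cst T) v))) h = _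
  rw [Groth.L07.GmFppf.rh_comp_specMap, Groth.L07.GmFppf.rh, Scheme.toSpecΓ_appTop, Iso.inv_hom_id, Category.comp_id]
  rfl

section Lift

local notation "B" => Spec (CommRingCat.of R)
local notation "G" => Red.Ga (Spec (CommRingCat.of R))

/-- units on the square of the additive group are polynomials -/
theorem exists_polynomial (v : Γ((G ⊗ G).left, ⊤)) (hv : IsUnit v) :
    ∃ h : MvPolynomial (Fin 2) R, IsUnit h ∧
      ∀ (T : Over B) (t t' : T ⟶ G), fn (lift t t') v = MvPolynomial.eval₂ (cst T) ![Red.gaFn t, Red.gaFn t'] h := by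
  let j : polyOb R 2 ⟶ G ⊗ G := lift (Groth.L25.GaPts.ptOfElt (polyFn (MvPolynomial.X 0)))
    (Groth.L25.GaPts.ptOfElt (polyFn (MvPolynomial.X 1)))
  let k : G ⊗ G ⟶ polyOb R 2 := ev ![Red.gaFn (fst G G), Red.gaFn (snd G G)]
  have hkj : k ≫ j = 𝟙 _ := by
    refine CartesianMonoidalCategory.hom_ext _ _ ?_ ?_
    · rw [Category.assoc, lift_fst, Category.id_comp, Groth.L25.GaPts.ptOfElt_comp]
      exact (congrArg Groth.L25.GaPts.ptOfElt ((fn_ev _ _).trans (MvPolynomial.eval₂_X _ _ _))).trans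
        (Groth.L25.GaPts.ptOfElt_gaFn _)
    · rw [Category.assoc, lift_snd, Category.id_comp, Groth.L25.GaPts.ptOfElt_comp]
      exact (congrArg Groth.L25.GaPts.ptOfElt ((fn_ev _ _).trans (MvPolynomial.eval₂_X _ _ _))).trans
        (Groth.L25.GaPts.ptOfElt_gaFn _)
  refine ⟨(Scheme.ΓSpecIso (CommRingCat.of (MvPolynomial (Fin 2) R))).hom (fn j v),
    (hv.map (fn j).hom).map _, fun T t t' => ?_⟩
  have e1 : v = MvPolynomial.eval₂ (cst (G ⊗ G)) ![Red.gaFn (fst G G), Red.gaFn (snd G G)]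
      ((Scheme.ΓSpecIso (CommRingCat.of (MvPolynomial (Fin 2) R))).hom (fn j v)) := by
    rw [← fn_ev, show polyFn ((Scheme.ΓSpecIso (CommRingCat.of (MvPolynomial (Fin 2) R))).hom (fn j v)) = fn j v from
      Iso.hom_inv_id_apply _ _, ← fn_comp, hkj, fn_id]
  conv_lhs => rw [e1]
  rw [fn_eval₂]
  congr 1
  funext i
  fin_cases i
  · show fn (lift t t') (Red.gaFn (fst G G)) = Red.gaFn t
    rw [← Groth.L25.GaPts.gaFn_comp, lift_fst]
  · show fn (lift t t') (Red.gaFn (snd G G)) = Red.gaFn t'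
    rw [← Groth.L25.GaPts.gaFn_comp, lift_snd]

/-- homomorphisms into quotients by units lift when Frobenius is surjective -/
theorem exists_hom_lift_frob (p : ℕ) [Fact p.Prime] [CharP R p] (hF : Function.Surjective (frobenius R p))
    {Sh : ShortComplex (BigSite.Ab Kf B)} (hSh : Sh.ShortExact) (i₁ : Sh.X₁.obj ≅ GmPts.unitsPre B)
    (φ : CGrpSh.pts Kf G ⟶ Sh.X₃) : ∃ ψ : CGrpSh.pts Kf G ⟶ Sh.X₂, ψ ≫ Sh.g = φ := by
  let I := Sh.X₂.obj
  let q := φ.hom.app (op G) (ptSec (𝟙 G))
  let e0 : 𝟙_ (Over B) ⟶ G := 1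
  have hφ : ∀ (T : Over B) (t : T ⟶ G), Sh.X₃.obj.map t.op q = φ.hom.app (op T) (ptSec t) := fun T t =>
    (NatTrans.naturality_apply φ.hom t.op (ptSec (𝟙 G))).symm.trans
      (congrArg (φ.hom.app (op T)) (congrArg ULift.up (congrArg Additive.ofMul (Category.comp_id t))))
  have hq0 : Sh.X₃.obj.map e0.op q = 0 := (hφ _ e0).trans (map_zero _)
  obtain ⟨L, hL, hlift, htriv⟩ := exists_module_of_section i₁ hSh q
  obtain ⟨s₀, hs₀⟩ := hlift (nonempty_iso_Ga p R hF hL (htriv _ e0 hq0))
  -- normalise along the zero section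
  let s := s₀ - I.map (toUnit G).op (I.map e0.op s₀)
  have hs : Sh.g.hom.app (op G) s = q := by
    rw [map_sub, NatTrans.naturality_apply Sh.g.hom (toUnit G).op, NatTrans.naturality_apply Sh.g.hom e0.op, hs₀, hq0,
      map_zero, sub_zero]
  let at' : ∀ {T : Over B} (_ : T ⟶ G) (_ : I.obj (op G)), I.obj (op T) := fun t y => I.map t.op y
  have at_comp : ∀ {T T' : Over B} (a : T' ⟶ T) (t : T ⟶ G) (y : I.obj (op G)),
      I.map a.op (at' t y) = at' (a ≫ t) y := fun a t y => by
    show I.map a.op (I.map t.op y) = I.map (a ≫ t).op y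
    rw [op_comp, Functor.map_comp, ConcreteCategory.comp_apply]
  have hs0 : ∀ T : Over B, at' (1 : T ⟶ G) s = 0 := fun T => by
    rw [show (1 : T ⟶ G) = toUnit T ≫ e0 from (MonObj.comp_one _).symm, ← at_comp]
    have : at' e0 s = 0 := by
      show I.map e0.op (s₀ - I.map (toUnit G).op (I.map e0.op s₀)) = 0
      rw [map_sub, ← ConcreteCategory.comp_apply (I.map (toUnit G).op), ← Functor.map_comp, ← op_comp,
        show e0 ≫ toUnit G = 𝟙 _ from toUnit_unique _ _, op_id, CategoryTheory.Functor.map_id]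
      exact sub_self _
    rw [this, map_zero]
  -- units inside the middle term
  let U : ∀ {T : Over B}, Γ(T.left, ⊤)ˣ → I.obj (op T) := fun {T} u =>
    Sh.f.hom.app (op T) (i₁.inv.app (op T) (GmPts.sectOfUnit (T := op T) u))
  have hU_mul : ∀ {T : Over B} (a b : Γ(T.left, ⊤)ˣ), U (a * b) = U a + U b := fun {T} a b => by
    show Sh.f.hom.app _ (i₁.inv.app _ _) = Sh.f.hom.app _ (i₁.inv.app _ _) + Sh.f.hom.app _ (i₁.inv.app _ _)
    rw [← map_add, ← map_add]
    rfl
  have hU_nat : ∀ {T T' : Over B} (a : T' ⟶ T) (b : Γ(T.left, ⊤)ˣ),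
      I.map a.op (U b) = U (Units.map (fn a).hom.toMonoidHom b) := fun a b =>
    ((NatTrans.naturality_apply Sh.f.hom a.op _).symm).trans
      (congrArg (Sh.f.hom.app _) (NatTrans.naturality_apply i₁.inv a.op _).symm)
  have hU_inj : ∀ {T : Over B} {a b : Γ(T.left, ⊤)ˣ}, U a = U b → a = b := fun {T a b} h =>
    congrArg GmPts.unitOfSect (ConcreteCategory.injective_of_mono_of_preservesPullback (i₁.inv.app (op T))
      ((sections_left_exact hSh T).1 h))
  -- the cocycle
  let c : I.obj (op (G ⊗ G)) := at' (fst G G) s + at' (snd G G) s - at' μ[G] s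
  have hc0 : Sh.g.hom.app _ c = 0 := by
    show Sh.g.hom.app _ (I.map (fst G G).op s + I.map (snd G G).op s - I.map μ[G].op s) = 0
    rw [map_sub, map_add, NatTrans.naturality_apply Sh.g.hom (fst G G).op, NatTrans.naturality_apply Sh.g.hom (snd G G).op,
      NatTrans.naturality_apply Sh.g.hom μ[G].op, hs, hφ, hφ, hφ, ← map_add, sub_eq_zero]
    refine congrArg (φ.hom.app _) (congrArg ULift.up (congrArg Additive.ofMul ?_))
    show fst G G * snd G G = μ[G]
    rw [Hom.mul_def, lift_fst_snd, Category.id_comp]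
  obtain ⟨v, hv⟩ := (sections_left_exact hSh (G ⊗ G)).2 c hc0
  obtain ⟨v, rfl⟩ : ∃ u, i₁.inv.app (op (G ⊗ G)) (GmPts.sectOfUnit (T := op (G ⊗ G)) u) = v :=
    ⟨GmPts.unitOfSect (i₁.hom.app (op (G ⊗ G)) v),
      ConcreteCategory.congr_hom (i₁.hom_inv_id_app (op (G ⊗ G))) v⟩
  obtain ⟨h, hh, hhv⟩ := exists_polynomial (v : Γ((G ⊗ G).left, ⊤)) v.isUnit
  let V : ∀ {T : Over B} (_ _ : T ⟶ G), Γ(T.left, ⊤)ˣ := fun t t' => Units.map (fn (lift t t')).hom.toMonoidHom v
  have hV : ∀ {T : Over B} (t t' : T ⟶ G), U (V t t') = at' t s + at' t' s - at' (t * t') s := fun t t' => by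
    rw [← hU_nat]
    show I.map (lift t t').op (Sh.f.hom.app _ _) = _
    rw [hv]
    show I.map (lift t t').op (at' (fst G G) s + at' (snd G G) s - at' μ[G] s) = _
    rw [map_sub, map_add, at_comp, at_comp, at_comp, lift_fst, lift_snd, ← Hom.mul_def]
  have hVval : ∀ {T : Over B} (t t' : T ⟶ G),
      ((V t t' : Γ(T.left, ⊤)ˣ) : Γ(T.left, ⊤)) = MvPolynomial.eval₂ (cst T) ![Red.gaFn t, Red.gaFn t'] h := fun t t' =>
    hhv _ t t'
  -- points of affine spaces
  let P : ∀ {n : ℕ} (_ : MvPolynomial (Fin n) R), polyOb R n ⟶ G := fun g => Groth.L25.GaPts.ptOfElt (polyFn g)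
  have hP : ∀ {n : ℕ} (g : MvPolynomial (Fin n) R), Red.gaFn (P g) = polyFn g := fun g =>
    Groth.L25.GaPts.gaFn_ptOfElt _
  have hPV : ∀ {n : ℕ} (a b : MvPolynomial (Fin n) R),
      ((V (P a) (P b) : Γ((polyOb R n).left, ⊤)ˣ) : Γ((polyOb R n).left, ⊤)) = polyFn (MvPolynomial.aeval ![a, b] h) :=
    fun {n} a b => by
      rw [hVval, polyFn_eq_eval₂, hP, hP]
      congr 1
      funext i
      fin_cases i <;> rfl
  have hPadd : ∀ {n : ℕ} (a b : MvPolynomial (Fin n) R), P a * P b = P (a + b) := fun a b =>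
    Groth.L25.GaPts.gaFn_injective (by
      show Red.gaFn (_ * _) = Red.gaFn _
      rw [Groth.L25.GaPts.gaFn_mul, hP, hP, hP, map_add])
  have hP0 : P (0 : MvPolynomial (Fin 2) R) = 1 := Groth.L25.GaPts.gaFn_injective (by
      show Red.gaFn _ = Red.gaFn _
      rw [hP, Groth.L25.GaPts.gaFn_one, map_zero])
  have hcoc : Groth.L25.GaGmSplit.Cocycle h := by
    refine ⟨?_, ?_, ?_⟩
    · refine polyFn_injective ?_
      rw [← hPV, map_one, hP0]
      refine (congrArg Units.val (hU_inj (b := 1) ?_)).trans Units.val_one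
      rw [hV, show (P (MvPolynomial.X 0 : MvPolynomial (Fin 2) R)) * 1 = P (MvPolynomial.X 0) from
        Groth.L25.GaPts.gaFn_injective (by
          show Red.gaFn _ = Red.gaFn _
          rw [Groth.L25.GaPts.gaFn_mul, Groth.L25.GaPts.gaFn_one, add_zero]), hs0,
        add_zero, sub_self]
      show (0 : I.obj _) = Sh.f.hom.app _ (i₁.inv.app _ 0)
      rw [map_zero, map_zero]
    · refine polyFn_injective ?_
      rw [← hPV]
      refine Eq.trans ?_ ((hPV (MvPolynomial.X 0) (MvPolynomial.X 1)).trans (congrArg polyFn ?_))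
      · refine congrArg Units.val (hU_inj ?_)
        rw [hV, hV, mul_comm (P (MvPolynomial.X 1 : MvPolynomial (Fin 2) R))]
        abel
      · rw [show ![(MvPolynomial.X 0 : MvPolynomial (Fin 2) R), MvPolynomial.X 1] = MvPolynomial.X from
          funext fun i => by fin_cases i <;> rfl]
        exact MvPolynomial.aeval_X_left_apply h
    · refine polyFn_injective ?_
      rw [map_mul, map_mul, ← hPV, ← hPV, ← hPV, ← hPV, ← Units.val_mul, ← Units.val_mul]
      refine congrArg Units.val (hU_inj ?_)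
      simp only [hU_mul, hV, ← hPadd, _root_.mul_assoc]
      abel
  obtain ⟨f, hf, hfeq⟩ := Groth.L25.GaGmSplit.exists_split hF h hh hcoc
  -- correct by the polynomial
  let F : ∀ {T : Over B} (_ : T ⟶ G), Γ(T.left, ⊤)ˣ := fun {T} t =>
    Units.map (Polynomial.eval₂RingHom (cst T) (Red.gaFn t)).toMonoidHom hf.unit
  have hFnat : ∀ {T T' : Over B} (a : T' ⟶ T) (t : T ⟶ G), Units.map (fn a).hom.toMonoidHom (F t) = F (a ≫ t) :=
    fun {T T'} a t => Units.ext (by
      show (fn a).hom (Polynomial.eval₂ (cst T) (Red.gaFn t) f) = Polynomial.eval₂ (cst T') (Red.gaFn (a ≫ t)) f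
      rw [Polynomial.hom_eval₂, Groth.L25.GaPts.gaFn_comp,
        show (fn a).hom.comp (cst T) = cst T' from RingHom.ext (fn_cst a)])
  have hFmul : ∀ {T : Over B} (t t' : T ⟶ G), F (t * t') = F t * F t' * V t t' := fun {T} t t' => Units.ext (by
    show Polynomial.eval₂ (cst T) (Red.gaFn (t * t')) f = Polynomial.eval₂ (cst T) (Red.gaFn t) f *
      Polynomial.eval₂ (cst T) (Red.gaFn t') f * (V t t' : Γ(T.left, ⊤)ˣ)
    rw [hVval, Groth.L25.GaPts.gaFn_mul]
    have key : ∀ g : MvPolynomial (Fin 2) R,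
        MvPolynomial.eval₂Hom (cst T) ![Red.gaFn t, Red.gaFn t'] (Polynomial.aeval g f) =
          Polynomial.eval₂ (cst T) (MvPolynomial.eval₂Hom (cst T) ![Red.gaFn t, Red.gaFn t'] g) f := fun g => by
      rw [Polynomial.aeval_def, Polynomial.hom_eval₂]
      congr 1
      exact RingHom.ext fun r => MvPolynomial.eval₂_C (cst T) _ r
    have e := congrArg (MvPolynomial.eval₂Hom (cst T) ![Red.gaFn t, Red.gaFn t']) hfeq
    rw [map_mul, map_mul, key, key, key, map_add, MvPolynomial.eval₂Hom_X', MvPolynomial.eval₂Hom_X'] at e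
    exact e)
  let s' : I.obj (op G) := s + U (F (𝟙 G))
  have hat' : ∀ {T : Over B} (t : T ⟶ G), at' t s' = at' t s + U (F t) := fun t => by
    show I.map t.op (s + U (F (𝟙 G))) = I.map t.op s + U (F t)
    rw [map_add, hU_nat, hFnat, Category.comp_id]
  have hadd : ∀ {T : Over B} (t t' : T ⟶ G), at' (t * t') s' = at' t s' + at' t' s' := fun t t' => by
    rw [hat', hat', hat', hFmul, hU_mul, hU_mul, hV]
    abel
  have hs' : Sh.g.hom.app (op G) s' = q := by
    show Sh.g.hom.app (op G) (s + U (F (𝟙 G))) = q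
    rw [map_add, hs]
    exact (congrArg (q + ·) (ConcreteCategory.congr_hom
      (congrArg (fun χ : Sh.X₁ ⟶ Sh.X₃ => χ.hom.app (op G)) Sh.zero) _)).trans (add_zero q)
  let ψ : CGrpSh.pts Kf G ⟶ Sh.X₂ :=
    ⟨{ app := fun T => AddCommGrpCat.ofHom (AddMonoidHom.mk' (M := (CGrpSh.pts Kf G).obj.obj T)
          (fun x : (CGrpSh.pts Kf G).obj.obj T => at' (x.down.toMul : T.unop ⟶ G) s')
          fun x y => hadd x.down.toMul y.down.toMul)
       naturality := fun {T T'} k => AddCommGrpCat.ext fun x =>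
         (at_comp k.unop (x.down.toMul : T.unop ⟶ G) s').symm }⟩
  refine ⟨ψ, Sheaf.hom_ext (NatTrans.ext (funext fun T => AddCommGrpCat.ext fun x => ?_))⟩
  show Sh.g.hom.app T (I.map (x.down.toMul : T.unop ⟶ G).op s') = φ.hom.app T x
  rw [NatTrans.naturality_apply Sh.g.hom (x.down.toMul : T.unop ⟶ G).op, hs']
  exact hφ T.unop x.down.toMul

/-- extensions of the additive group by the multiplicative group are trivial when Frobenius is surjective -/
theorem subsingleton_ext_one_frob (p : ℕ) [Fact p.Prime] [CharP R p] (hF : Function.Surjective (frobenius R p)) :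
    Subsingleton (CGrpSh.ExtS Kf G (Red.Gm B) 1) := by
  let M := CGrpSh.pts Scheme.fppfPrecoverage (Red.Gm B)
  let Sh : ShortComplex (BigSite.Ab Kf B) :=
    ShortComplex.mk (Injective.ι M) (cokernel.π (Injective.ι M)) (cokernel.condition _)
  have hSh : Sh.ShortExact := { exact := ShortComplex.exact_of_g_is_cokernel _ (cokernelIsCokernel _) }
  suffices H : ∀ x : CGrpSh.ExtS Kf G (Red.Gm B) 1, x = 0 from ⟨fun x y => (H x).trans (H y).symm⟩
  intro x
  obtain ⟨z, hz⟩ := Ext.covariant_sequence_exact₁ _ hSh x (Ext.eq_zero_of_injective _) (zero_add 1)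
  obtain ⟨φ, rfl⟩ := (Ext.mk₀_bijective _ _).2 z
  obtain ⟨ψ, hψ⟩ := exists_hom_lift_frob p hF hSh (GmPts.ptsUnitsPreIso B) φ
  rw [← hz, ← hψ, ← Ext.mk₀_comp_mk₀, Ext.comp_assoc_of_second_deg_zero, hSh.comp_extClass, Ext.comp_zero]

end Lift

end Groth.L07.GaExt
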