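import Groth.Agent.L25.GaGmSplit
import Groth.Prelude.Def_AlphaPn

/-!
# Symmetric multiplicative cocycles of `α_{p^n}` split when Frobenius is surjective
-/

universe u

open Groth.L25.GaGmSplit Groth.L25.CocycleComb

set_option autoImplicit false
set_option maxHeartbeats 800000
set_option linter.style.haveILetI false

noncomputable section

namespace Groth.L07.GaExt.TruncSplit

variable {p : ℕ} [hp : Fact p.Prime] {R : Type u} [CommRing R] [CharP R p] {n : ℕ}

local notation "P2" => MvPolynomial (Fin 2) R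
local notation "P3" => MvPolynomial (Fin 3) R
local notation "x₀" => (MvPolynomial.X 0 : MvPolynomial (Fin 2) R)
local notation "x₁" => (MvPolynomial.X 1 : MvPolynomial (Fin 2) R)

section V

variable {σ : Type}

/-- polynomials without monomials of small degree in the box -/
def V (R : Type u) [CommRing R] (σ : Type) (q D : ℕ) : Ideal (MvPolynomial σ R) where
  carrier := {g | ∀ m : σ →₀ ℕ, (∀ i, m i < q) → m.degree < D → g.coeff m = 0}
  add_mem' := fun {a b} ha hb m h1 h2 => by rw [MvPolynomial.coeff_add, ha m h1 h2, hb m h1 h2, add_zero]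
  zero_mem' := fun m _ _ => MvPolynomial.coeff_zero m
  smul_mem' := fun c g hg m h1 h2 => by
    classical
    rw [smul_eq_mul, MvPolynomial.coeff_mul]
    refine Finset.sum_eq_zero fun x hx => ?_
    rw [Finset.mem_antidiagonal] at hx
    subst hx
    rw [hg x.2 (fun i => lt_of_le_of_lt (by simp) (h1 i)) (lt_of_le_of_lt (by simp [map_add]) h2), mul_zero]

omit hp [CharP R p] in
theorem V_anti {q D D' : ℕ} (h : D ≤ D') : V R σ q D' ≤ V R σ q D := fun _ hg m h1 h2 => hg m h1 (h2.trans_le h)

omit hp [CharP R p] in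
theorem V_mul {q a b : ℕ} {x y : MvPolynomial σ R} (hx : x ∈ V R σ q a) (hy : y ∈ V R σ q b) :
    x * y ∈ V R σ q (a + b) := fun m h1 h2 => by
  classical
  rw [MvPolynomial.coeff_mul]
  refine Finset.sum_eq_zero fun z hz => ?_
  rw [Finset.mem_antidiagonal] at hz
  subst hz
  rw [map_add] at h2
  rcases Nat.lt_or_ge z.1.degree a with h | h
  · rw [hx z.1 (fun i => lt_of_le_of_lt (by simp) (h1 i)) h, zero_mul]
  · rw [hy z.2 (fun i => lt_of_le_of_lt (by simp) (h1 i)) (by omega), mul_zero]

omit hp [CharP R p] in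
theorem V_pow {q : ℕ} {x : MvPolynomial σ R} (hx : x ∈ V R σ q 1) (k : ℕ) : x ^ k ∈ V R σ q k := by
  induction k with
  | zero => exact fun m _ h => absurd h (Nat.not_lt_zero _)
  | succ k ih => rw [pow_succ]; exact V_mul ih hx

omit hp [CharP R p] in
theorem X_mem (q : ℕ) (i : σ) : (MvPolynomial.X i : MvPolynomial σ R) ∈ V R σ q 1 := fun m _ h2 => by
  classical
  rw [MvPolynomial.coeff_X', if_neg]
  rintro rfl
  simp at h2

omit hp [CharP R p] in
theorem X_pow_mem (q D : ℕ) (i : σ) : (MvPolynomial.X i : MvPolynomial σ R) ^ q ∈ V R σ q D := fun m h1 _ => by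
  classical
  rw [MvPolynomial.coeff_X_pow, if_neg]
  rintro rfl
  simpa using h1 i

omit hp [CharP R p] in
theorem aeval_sub_mem {q : ℕ} {a : MvPolynomial σ R} (ha : a ∈ V R σ q 1) {f : Polynomial R}
    (hf : f.coeff 0 = 0) : Polynomial.aeval a f ∈ V R σ q 1 := by
  obtain ⟨r, rfl⟩ : Polynomial.X ∣ f := Polynomial.X_dvd_iff.2 hf
  rw [map_mul, Polynomial.aeval_X]
  exact Ideal.mul_mem_right _ _ ha

omit hp [CharP R p] in
theorem subst_mem {q D : ℕ} {g : P2} (hg : g ∈ V R (Fin 2) q D) (v : Fin 2 → MvPolynomial σ R)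
    (hv : ∀ i, v i ∈ V R σ q 1) (hvq : ∀ i, v i ^ q ∈ V R σ q D) : MvPolynomial.aeval v g ∈ V R σ q D := by
  classical
  rw [g.as_sum, map_sum]
  refine Ideal.sum_mem _ fun m hm => ?_
  rw [MvPolynomial.aeval_monomial, Finsupp.prod_fintype _ _ (fun i => pow_zero _), Fin.prod_univ_two]
  refine Ideal.mul_mem_left _ _ ?_
  by_cases h0 : q ≤ m 0
  · exact Ideal.mul_mem_right _ _ (Ideal.mem_of_dvd _ (pow_dvd_pow _ h0) (hvq 0))
  by_cases h1 : q ≤ m 1
  · exact Ideal.mul_mem_left _ _ (Ideal.mem_of_dvd _ (pow_dvd_pow _ h1) (hvq 1))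
  refine V_anti ?_ (V_mul (V_pow (hv 0) (m 0)) (V_pow (hv 1) (m 1)))
  by_contra hD
  refine MvPolynomial.mem_support_iff.1 hm (hg m (fun i => by fin_cases i <;> simp <;> omega) ?_)
  rw [Finsupp.degree_eq_sum, Fin.sum_univ_two]
  omega

omit hp [CharP R p] in
theorem aeval_eq_zero {q : ℕ} {g : P2} (hg : g ∈ V R (Fin 2) q (2 * q)) {S : Type u} [CommRing S] [Algebra R S]
    {a b : S} (ha : a ^ q = 0) (hb : b ^ q = 0) : MvPolynomial.aeval ![a, b] g = 0 := by
  rw [g.as_sum, map_sum]
  refine Finset.sum_eq_zero fun m hm => ?_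
  rw [MvPolynomial.aeval_monomial, Finsupp.prod_fintype _ _ (fun i => pow_zero _), Fin.prod_univ_two]
  by_cases h0 : q ≤ m 0
  · simp [pow_eq_zero_of_le h0 ha]
  by_cases h1 : q ≤ m 1
  · simp [pow_eq_zero_of_le h1 hb]
  refine absurd ?_ (MvPolynomial.mem_support_iff.1 hm)
  refine hg m (fun i => by fin_cases i <;> simp <;> omega) ?_
  rw [Finsupp.degree_eq_sum, Fin.sum_univ_two]
  omega

omit hp [CharP R p] in
theorem degree_e2 (i j : ℕ) : (e2 i j).degree = i + j := by simp [e2, map_add]

omit hp [CharP R p] in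
theorem degree_e3 (i j l : ℕ) : (e3 i j l).degree = i + j + l := by simp [e3, map_add]

omit hp [CharP R p] in
theorem monomial_mem {q D i j : ℕ} (c : R) (h : q ≤ i ∨ q ≤ j ∨ D ≤ i + j) :
    MvPolynomial.C c * x₀ ^ i * x₁ ^ j ∈ V R (Fin 2) q D := fun m h1 h2 => by
  classical
  rw [← mon2, MvPolynomial.coeff_monomial, if_neg]
  rintro rfl
  rw [degree_e2] at h2
  have := h1 0; have := h1 1
  simp [e2] at *
  omega

end V

/-- a symmetric cocycle on elements killed by the `q`-th power -/
def TC (q : ℕ) (h : P2) : Prop :=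
  ∀ {S : Type u} [CommRing S] [Algebra R S] (a b c : S), a ^ q = 0 → b ^ q = 0 → c ^ q = 0 →
    MvPolynomial.aeval ![a, 0] h = 1 ∧ MvPolynomial.aeval ![b, a] h = MvPolynomial.aeval ![a, b] h ∧
      MvPolynomial.aeval ![b, c] h * MvPolynomial.aeval ![a, b + c] h =
        MvPolynomial.aeval ![a + b, c] h * MvPolynomial.aeval ![a, b] h

theorem choose_eq_zero {i j : ℕ} (hi : i < p ^ n) (hj : j < p ^ n) (h : p ^ n ≤ i + j) :
    ((i + j).choose i : R) = 0 := by
  haveI : ExpChar (Polynomial R) p := ExpChar.prime hp.out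
  obtain ⟨r, hr⟩ := Nat.exists_eq_add_of_le h
  have h1 : ((Polynomial.X + 1 : Polynomial R) ^ (p ^ n + r)).coeff i =
      ((Polynomial.X ^ (p ^ n) + 1) * (Polynomial.X + 1) ^ r).coeff i := by
    rw [pow_add, add_pow_char_pow, one_pow]
  rw [Polynomial.coeff_X_add_one_pow, add_mul, one_mul, Polynomial.coeff_add, Polynomial.coeff_X_pow_mul',
    if_neg (by omega), Polynomial.coeff_X_add_one_pow, zero_add] at h1
  rw [hr, h1, Nat.choose_eq_zero_of_lt (by omega), Nat.cast_zero]

/-- the coefficient relations of the lowest part of a cocycle -/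
theorem relations {D : ℕ} (hD : 0 < D) {h : P2} (hc : TC (p ^ n) h) (hh : h - 1 ∈ V R (Fin 2) (p ^ n) D) :
    (∀ i, i < p ^ n → (h - 1).coeff (e2 i 0) = 0) ∧
    (∀ i j, i < p ^ n → j < p ^ n → (h - 1).coeff (e2 i j) = (h - 1).coeff (e2 j i)) ∧
    (∀ i j l, 0 < i → 0 < j → 0 < l → i < p ^ n → j < p ^ n → l < p ^ n → i + j + l = D →
      ((i + j).choose i : R) * (h - 1).coeff (e2 (i + j) l) =
        ((j + l).choose j : R) * (h - 1).coeff (e2 i (j + l))) := by
  set q := p ^ n with hq
  set g : P2 := h - 1 with hg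
  have hq0 : 0 < q := pow_pos hp.out.pos n
  refine ⟨fun i hi => ?_, fun i j hi hj => ?_, fun i j l hi hj hl hiq hjq hlq hijl => ?_⟩
  · let π := Ideal.Quotient.mkₐ R (V R (Fin 2) q (3 * q))
    have hπ : ∀ k, π (MvPolynomial.X k) ^ q = 0 := fun k => by
      rw [← map_pow]; exact Ideal.Quotient.eq_zero_iff_mem.2 (X_pow_mem _ _ k)
    have h1 := (hc (π x₀) (π x₀) (π x₀) (hπ 0) (hπ 0) (hπ 0)).1
    have e : π (MvPolynomial.aeval ![x₀, 0] g) = 0 := by
      rw [← AlgHom.comp_apply, MvPolynomial.comp_aeval, hg, map_sub, map_one]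
      rw [show (fun k => π (![x₀, 0] k)) = ![π x₀, 0] from funext fun k => by fin_cases k <;> simp, h1, sub_self]
    have := (Ideal.Quotient.eq_zero_iff_mem.1 e) (e2 i 0)
      (fun k => by fin_cases k <;> simp [e2] <;> omega) (by rw [degree_e2]; omega)
    rwa [coeff_axis] at this
  · let π := Ideal.Quotient.mkₐ R (V R (Fin 2) q (3 * q))
    have hπ : ∀ k, π (MvPolynomial.X k) ^ q = 0 := fun k => by
      rw [← map_pow]; exact Ideal.Quotient.eq_zero_iff_mem.2 (X_pow_mem _ _ k)
    have h1 := (hc (π x₀) (π x₁) (π x₀) (hπ 0) (hπ 1) (hπ 0)).2.1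
    have e : π (MvPolynomial.aeval ![x₁, x₀] g - g) = 0 := by
      rw [map_sub]
      nth_rewrite 2 [← MvPolynomial.aeval_X_left_apply g]
      rw [← AlgHom.comp_apply, ← AlgHom.comp_apply π (MvPolynomial.aeval MvPolynomial.X), MvPolynomial.comp_aeval,
        MvPolynomial.comp_aeval]
      rw [show (fun k => π (![x₁, x₀] k)) = ![π x₁, π x₀] from funext fun k => by fin_cases k <;> simp,
        show (fun k => π (MvPolynomial.X k)) = ![π x₀, π x₁] from funext fun k => by fin_cases k <;> simp]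
      rw [hg, map_sub, map_sub, map_one, map_one, h1, sub_self]
    have := (Ideal.Quotient.eq_zero_iff_mem.1 e) (e2 i j)
      (fun k => by fin_cases k <;> simp [e2] <;> omega) (by rw [degree_e2]; omega)
    rw [MvPolynomial.coeff_sub, coeff_swap, sub_eq_zero] at this
    exact this.symm
  · haveI : ExpChar P3 p := ExpChar.prime hp.out
    let π := Ideal.Quotient.mkₐ R (V R (Fin 3) q (3 * q))
    have hπ : ∀ k, π (MvPolynomial.X k) ^ q = 0 := fun k => by
      rw [← map_pow]; exact Ideal.Quotient.eq_zero_iff_mem.2 (X_pow_mem _ _ k)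
    set a := (MvPolynomial.X 0 : P3)
    set b := (MvPolynomial.X 1 : P3)
    set c := (MvPolynomial.X 2 : P3)
    have h1 := (hc (π a) (π b) (π c) (hπ 0) (hπ 1) (hπ 2)).2.2
    set A := MvPolynomial.aeval ![b, c] g with hA
    set B := MvPolynomial.aeval ![a, b + c] g with hB
    set C' := MvPolynomial.aeval ![a + b, c] g with hC
    set E := MvPolynomial.aeval ![a, b] g with hE
    have hm : ∀ u v : P3, u ∈ V R (Fin 3) q 1 → v ∈ V R (Fin 3) q 1 → u ^ q ∈ V R (Fin 3) q D →
        v ^ q ∈ V R (Fin 3) q D → MvPolynomial.aeval ![u, v] g ∈ V R (Fin 3) q D := fun u v h1 h2 h3 h4 =>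
      subst_mem hh _ (fun k => by fin_cases k <;> simpa) (fun k => by fin_cases k <;> simpa)
    have hbc : (b + c) ^ q ∈ V R (Fin 3) q D := by
      rw [hq, add_pow_char_pow]; exact Ideal.add_mem _ (X_pow_mem _ _ _) (X_pow_mem _ _ _)
    have hab : (a + b) ^ q ∈ V R (Fin 3) q D := by
      rw [hq, add_pow_char_pow]; exact Ideal.add_mem _ (X_pow_mem _ _ _) (X_pow_mem _ _ _)
    have hAm : A ∈ _ := hm b c (X_mem _ _) (X_mem _ _) (X_pow_mem _ _ _) (X_pow_mem _ _ _)
    have hBm : B ∈ _ := hm a (b + c) (X_mem _ _) (Ideal.add_mem _ (X_mem _ _) (X_mem _ _)) (X_pow_mem _ _ _) hbc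
    have hCm : C' ∈ _ := hm (a + b) c (Ideal.add_mem _ (X_mem _ _) (X_mem _ _)) (X_mem _ _) hab (X_pow_mem _ _ _)
    have hEm : E ∈ _ := hm a b (X_mem _ _) (X_mem _ _) (X_pow_mem _ _ _) (X_pow_mem _ _ _)
    have e : π ((1 + A) * (1 + B) - (1 + C') * (1 + E)) = 0 := by
      have hev : ∀ u v : P3, π (1 + MvPolynomial.aeval ![u, v] g) = MvPolynomial.aeval ![π u, π v] h := fun u v => by
        rw [map_add, map_one, ← AlgHom.comp_apply, MvPolynomial.comp_aeval, hg, map_sub, map_one, add_sub_cancel,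
          show (fun k => π (![u, v] k)) = ![π u, π v] from funext fun k => by fin_cases k <;> simp]
      rw [map_sub, map_mul, map_mul, hev, hev, hev, hev, map_add, map_add, h1, sub_self]
    have h2 : (C' + E) - (A + B) ∈ V R (Fin 3) q (D + 1) := by
      have e' : (C' + E) - (A + B) = (A * B - C' * E) - ((1 + A) * (1 + B) - (1 + C') * (1 + E)) := by ring
      rw [e']
      refine Ideal.sub_mem _ (Ideal.sub_mem _ (V_anti (by omega) (V_mul hAm hBm)) (V_anti (by omega) (V_mul hCm hEm))) ?_
      exact V_anti (by omega) (Ideal.Quotient.eq_zero_iff_mem.1 e)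
    have := h2 (e3 i j l) (fun k => by fin_cases k <;> simp [e3] <;> omega) (by rw [degree_e3]; omega)
    rw [MvPolynomial.coeff_sub, MvPolynomial.coeff_add, MvPolynomial.coeff_add, hC, hB, coeff_left, coeff_right,
      (coeff_face g i j l).1 hi, (coeff_face g i j l).2 hl, add_zero, zero_add, sub_eq_zero] at this
    exact this

/-- above degree `q` there are no cocycles -/
theorem coeff_eq_zero {D : ℕ} (hD : p ^ n < D) {h : P2} (hc : TC (p ^ n) h) (hh : h - 1 ∈ V R (Fin 2) (p ^ n) D)
    {a b : ℕ} (ha : a < p ^ n) (hb : b < p ^ n) (hab : a + b = D) : (h - 1).coeff (e2 a b) = 0 := by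
  obtain ⟨-, hsymm, hrel⟩ := relations (by omega) hc hh
  have main : ∀ a b, a < p ^ n → b < p ^ n → a + b = D → ∀ v, ¬ p ∣ b / p ^ v → p ^ v ≤ D - p ^ n →
      (h - 1).coeff (e2 a b) = 0 := by
    intro a b ha hb hab v hndvd hv
    have hvb : p ^ v ≤ b := by
      by_contra hcon
      exact hndvd (by rw [Nat.div_eq_of_lt (by omega)]; exact dvd_zero p)
    have hv0 := pow_pos hp.out.pos v
    have hr := hrel a (b - p ^ v) (p ^ v) (by omega) (by omega) hv0 ha (by omega) (by omega) (by omega)
    rw [choose_eq_zero ha (by omega) (by omega), zero_mul, show b - p ^ v + p ^ v = b by omega,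
      Nat.choose_symm hvb, eq_comm] at hr
    obtain ⟨y, hy⟩ := exists_inv (R := R) (CharP.cast_eq_zero R p) (not_dvd_choose hndvd)
    calc (h - 1).coeff (e2 a b) = y * ((b.choose (p ^ v) : R) * (h - 1).coeff (e2 a b)) := by
          linear_combination (-(h - 1).coeff (e2 a b)) * hy
      _ = 0 := by rw [hr, mul_zero]
  obtain ⟨v, b', hb', hbv⟩ := Nat.exists_eq_pow_mul_and_not_dvd (show b ≠ 0 by omega) p hp.out.ne_one
  obtain ⟨w, a', ha', haw⟩ := Nat.exists_eq_pow_mul_and_not_dvd (show a ≠ 0 by omega) p hp.out.ne_one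
  by_cases hv : p ^ v ≤ D - p ^ n
  · exact main a b ha hb hab v (by rwa [hbv, Nat.mul_div_cancel_left _ (pow_pos hp.out.pos v)]) hv
  by_cases hw : p ^ w ≤ D - p ^ n
  · rw [hsymm a b ha hb]
    exact main b a hb ha (by omega) w (by rwa [haw, Nat.mul_div_cancel_left _ (pow_pos hp.out.pos w)]) hw
  exfalso
  have hpos : ∀ {u c c' : ℕ}, ¬ p ∣ c' → c = p ^ u * c' → c < p ^ n → u ≤ n := fun {u c c'} hc' e hlt => by
    have hc0 : 0 < c' := Nat.pos_of_ne_zero fun h0 => hc' (h0 ▸ dvd_zero p)
    have : p ^ u < p ^ n := lt_of_le_of_lt (e ▸ Nat.le_mul_of_pos_right _ hc0) hlt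
    exact ((Nat.pow_lt_pow_iff_right hp.out.one_lt).1 this).le
  have key : ∀ u, u ≤ v → u ≤ w → u ≤ n → p ^ u ≤ D - p ^ n := fun u h1 h2 h3 => by
    refine Nat.le_of_dvd (by omega) (Nat.dvd_sub ?_ (pow_dvd_pow p h3))
    rw [← hab, haw, hbv]
    exact dvd_add (dvd_mul_of_dvd_left (pow_dvd_pow p h2) _) (dvd_mul_of_dvd_left (pow_dvd_pow p h1) _)
  rcases le_total v w with h1 | h1
  · exact hv (key v le_rfl h1 (hpos hb' hbv hb))
  · exact hw (key w h1 le_rfl (hpos ha' haw ha))

/-- one step of the approximation -/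
theorem step (hsurj : Function.Surjective (frobenius R p)) {D : ℕ} (hD : 0 < D) {h : P2} (hc : TC (p ^ n) h)
    (hh : h - 1 ∈ V R (Fin 2) (p ^ n) D) :
    ∃ f : Polynomial R, f.coeff 0 = 1 ∧ (h - 1) + (Polynomial.aeval x₀ f * Polynomial.aeval x₁ f -
      Polynomial.aeval (x₀ + x₁) f) ∈ V R (Fin 2) (p ^ n) (D + 1) := by
  classical
  set q := p ^ n with hq
  obtain ⟨hax, hsymm, hrel⟩ := relations hD hc hh
  set g : P2 := h - 1 with hg
  set G : P2 := ∑ i ∈ Finset.Ioo 0 D, MvPolynomial.C (g.coeff (e2 i (D - i))) * x₀ ^ i * x₁ ^ (D - i) with hG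
  have hgG : g - G ∈ V R (Fin 2) q (D + 1) := fun m h1 h2 => by
    rw [e2_eq m] at h2 ⊢
    have hM : m 0 < q := h1 0
    have hL : m 1 < q := h1 1
    generalize m 0 = M at hM h2 ⊢
    generalize m 1 = L at hL h2 ⊢
    rw [degree_e2] at h2
    rw [MvPolynomial.coeff_sub, hG, MvPolynomial.coeff_sum]
    simp only [← mon2, MvPolynomial.coeff_monomial, e2_inj]
    by_cases hML : M + L < D
    · rw [hh (e2 M L) (fun k => by fin_cases k <;> simp [e2] <;> omega) (by rw [degree_e2]; omega),
        Finset.sum_eq_zero (fun i hi => by rw [if_neg]; simp at hi; omega), sub_zero]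
    have hML' : M + L = D := by omega
    rcases Nat.eq_zero_or_pos M with rfl | hM0
    · rw [hsymm 0 L hM hL, hax L hL, Finset.sum_eq_zero (fun i hi => by rw [if_neg]; simp at hi; omega), sub_zero]
    rcases Nat.eq_zero_or_pos L with rfl | hL0
    · rw [hax M hM, Finset.sum_eq_zero (fun i hi => by rw [if_neg]; simp at hi; omega), sub_zero]
    rw [Finset.sum_eq_single M (fun i _ hi => by rw [if_neg]; omega) (fun h => by simp at h; omega),
      if_pos ⟨rfl, by omega⟩, show D - M = L by omega, sub_self]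
  suffices H : ∃ f : Polynomial R, f.coeff 0 = 1 ∧ G + (Polynomial.aeval x₀ f * Polynomial.aeval x₁ f -
      Polynomial.aeval (x₀ + x₁) f) ∈ V R (Fin 2) q (D + 1) by
    obtain ⟨f, hf0, hf⟩ := H
    refine ⟨f, hf0, ?_⟩
    have e : g + (Polynomial.aeval x₀ f * Polynomial.aeval x₁ f - Polynomial.aeval (x₀ + x₁) f) =
        (g - G) + (G + (Polynomial.aeval x₀ f * Polynomial.aeval x₁ f - Polynomial.aeval (x₀ + x₁) f)) := by ring
    rw [e]
    exact Ideal.add_mem _ hgG hf
  have hGzero : (∀ i, 0 < i → i < D → MvPolynomial.C (g.coeff (e2 i (D - i))) * x₀ ^ i * x₁ ^ (D - i) ∈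
      V R (Fin 2) q (D + 1)) → ∃ f : Polynomial R, f.coeff 0 = 1 ∧ G + (Polynomial.aeval x₀ f * Polynomial.aeval x₁ f -
      Polynomial.aeval (x₀ + x₁) f) ∈ V R (Fin 2) q (D + 1) := fun hz =>
    ⟨1, by simp, by
      simp only [map_one, mul_one, sub_self, add_zero, hG]
      exact Ideal.sum_mem _ fun i hi => hz i (by simp at hi; omega) (by simp at hi; omega)⟩
  by_cases hDq : q < D
  · refine hGzero fun i hi hiD => ?_
    by_cases hbox : i < q ∧ D - i < q
    · rw [coeff_eq_zero hDq hc hh hbox.1 hbox.2 (by omega), map_zero, zero_mul, zero_mul]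
      exact Ideal.zero_mem _
    · exact monomial_mem _ (by omega)
  by_cases hD2 : D < 2
  · exact hGzero fun i hi hiD => absurd hiD (by omega)
  have hcn : IsCoc (⊥ : Ideal R) D (fun i => g.coeff (e2 i (D - i))) := by
    intro i j l hi hj hl hijl
    dsimp only
    rw [Ideal.mem_bot, sub_eq_zero, show D - (i + j) = l by omega, show D - i = j + l by omega]
    exact hrel i j l hi hj hl (by omega) (by omega) (by omega) hijl
  have hp0 : (p : R) = 0 := CharP.cast_eq_zero R p
  obtain ⟨v, d, hd, hDd⟩ := Nat.exists_eq_pow_mul_and_not_dvd (show D ≠ 0 by omega) p hp.out.ne_one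
  rcases Nat.lt_or_ge 1 d with hd1 | hd1
  · obtain ⟨c, -, hci⟩ := exists_coboundary hp0 (J := ⊤) v d hd hd1 hDd hcn (fun i hi hiD => by
      rw [hsymm i (D - i) (by omega) (by omega), show D - (D - i) = i by omega, sub_self]; exact Ideal.zero_mem _)
      (fun _ => trivial)
    refine ⟨1 + Polynomial.C c * Polynomial.X ^ D, by simp [Polynomial.coeff_X_pow, show 0 ≠ D by omega], ?_⟩
    have hGb : G = ∑ i ∈ Finset.Ioo 0 D, MvPolynomial.C c * ((D.choose i : P2) * (x₀ ^ i * x₁ ^ (D - i))) := by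
      refine Finset.sum_congr rfl fun i hi => ?_
      rw [Finset.mem_Ioo] at hi
      rw [sub_eq_zero.1 (Ideal.mem_bot.1 (hci i hi.1 hi.2)), map_mul, map_natCast]
      ring
    have hbin : (x₀ + x₁) ^ D = x₀ ^ D + x₁ ^ D +
        ∑ i ∈ Finset.Ioo 0 D, (D.choose i : P2) * (x₀ ^ i * x₁ ^ (D - i)) := by
      rw [add_pow, Finset.sum_range_succ]
      simp only [Nat.sub_self, pow_zero, Nat.choose_self, Nat.cast_one, mul_one]
      rw [show Finset.range D = insert 0 (Finset.Ioo 0 D) by
        ext k; simp; omega, Finset.sum_insert (by simp)]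
      simp only [pow_zero, Nat.sub_zero, Nat.choose_zero_right, Nat.cast_one, mul_one, one_mul]
      rw [Finset.sum_congr rfl fun i _ => mul_comm (x₀ ^ i * x₁ ^ (D - i)) (D.choose i : P2)]
      ring
    have e : G + (Polynomial.aeval x₀ (1 + Polynomial.C c * Polynomial.X ^ D) *
        Polynomial.aeval x₁ (1 + Polynomial.C c * Polynomial.X ^ D) -
        Polynomial.aeval (x₀ + x₁) (1 + Polynomial.C c * Polynomial.X ^ D)) =
        MvPolynomial.C (c * c) * x₀ ^ D * x₁ ^ D := by
      simp only [map_add, map_one, map_mul, map_pow, Polynomial.aeval_C, Polynomial.aeval_X,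
        MvPolynomial.algebraMap_eq]
      rw [hbin, hGb, ← Finset.mul_sum]
      ring
    rw [e]
    exact monomial_mem _ (Or.inr (Or.inr (by omega)))
  · obtain ⟨t, ht⟩ : ∃ t, D = p ^ (t + 1) := by
      obtain rfl : d = 1 := by
        rcases Nat.eq_zero_or_pos d with rfl | h
        · exact absurd (dvd_zero p) hd
        · omega
      rcases v with _ | v
      · simp at hDd; omega
      · exact ⟨v, by rw [hDd, mul_one]⟩
    obtain ⟨κ, -, hndvd, hκm⟩ := exists_witt hp0 (J := ⊤) t ht hcn (fun _ => trivial)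
    obtain ⟨b, hb⟩ := hsurj (-κ)
    rw [frobenius_def] at hb
    obtain ⟨w, hw0, hw⟩ := exists_weights (p := p) (R := R)
    set f : Polynomial R := ∑ i ∈ Finset.range p, Polynomial.C (w i) * (Polynomial.C b * Polynomial.X ^ (p ^ t)) ^ i
      with hf
    have hev : ∀ a : P2, Polynomial.aeval a f =
        ∑ i ∈ Finset.range p, MvPolynomial.C (w i) * (MvPolynomial.C b * a ^ (p ^ t)) ^ i := by
      intro a
      simp only [hf, map_sum, map_mul, map_pow, Polynomial.aeval_C, Polynomial.aeval_X, MvPolynomial.algebraMap_eq]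
    refine ⟨f, ?_, ?_⟩
    · rw [hf, Polynomial.coeff_zero_eq_eval_zero, Polynomial.eval_finsetSum,
        Finset.sum_eq_single_of_mem 0 (Finset.mem_range.2 hp.out.pos) fun i _ hi => by
          simp [zero_pow (pow_ne_zero t hp.out.ne_zero), zero_pow hi]]
      simp [hw0]
    haveI : ExpChar P2 p := ExpChar.prime hp.out
    rw [hev, hev, hev, add_pow_char_pow, mul_add, sum_mul_sum_eq w hw]
    set S := (Finset.range p ×ˢ Finset.range p).filter (fun x => p ≤ x.1 + x.2) with hS
    rw [← Finset.sum_filter_add_sum_filter_not S (fun x => x.1 + x.2 = p), ← add_assoc]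
    refine Ideal.add_mem _ ?_ (Ideal.sum_mem _ fun x hx => ?_)
    · have hmain : ∑ x ∈ S.filter (fun x => x.1 + x.2 = p),
          MvPolynomial.C (w x.1 * w x.2) *
            ((MvPolynomial.C b * x₀ ^ (p ^ t)) ^ x.1 * (MvPolynomial.C b * x₁ ^ (p ^ t)) ^ x.2) =
          ∑ m ∈ Finset.Ico 1 p, MvPolynomial.C (b ^ p * (w m * w (p - m))) *
            x₀ ^ (m * p ^ t) * x₁ ^ (D - m * p ^ t) := by
        symm
        refine Finset.sum_nbij' (fun m => (m, p - m)) (fun x => x.1) ?_ ?_ ?_ ?_ ?_
        · intro m hm; simp at hm; simp [hS]; omega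
        · intro x hx; simp [hS] at hx; simp; omega
        · intro m _; rfl
        · intro x hx; simp [hS] at hx; ext <;> simp; omega
        · intro m hm
          simp only [Finset.mem_Ico] at hm
          have e : D - m * p ^ t = (p - m) * p ^ t := by
            rw [ht, Nat.sub_mul, pow_succ']
          have eb : b ^ p = b ^ m * b ^ (p - m) := by rw [← pow_add, Nat.add_sub_cancel' hm.2.le]
          rw [e, eb]
          simp only [map_mul, map_pow, mul_pow, ← pow_mul]
          ring
      have hq' : 0 < p ^ t := pow_pos hp.out.pos t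
      have hDq' : D = p * p ^ t := by rw [ht, pow_succ']
      have hres : ∑ i ∈ (Finset.Ioo 0 D).filter (fun i => p ^ t ∣ i),
          MvPolynomial.C (g.coeff (e2 i (D - i))) * x₀ ^ i * x₁ ^ (D - i) =
          ∑ m ∈ Finset.Ico 1 p, MvPolynomial.C (g.coeff (e2 (m * p ^ t) (D - m * p ^ t))) *
            x₀ ^ (m * p ^ t) * x₁ ^ (D - m * p ^ t) := by
        symm
        refine Finset.sum_nbij' (fun m => m * p ^ t) (fun i => i / p ^ t) ?_ ?_ ?_ ?_ ?_
        · intro m hm
          simp only [Finset.mem_Ico] at hm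
          simp only [Finset.mem_filter, Finset.mem_Ioo]
          exact ⟨⟨Nat.mul_pos (by omega) hq', hDq' ▸ Nat.mul_lt_mul_of_pos_right hm.2 hq'⟩, dvd_mul_left _ _⟩
        · intro i hi
          simp only [Finset.mem_filter, Finset.mem_Ioo] at hi
          obtain ⟨⟨hi0, hin⟩, c, rfl⟩ := hi
          simp only [Finset.mem_Ico, Nat.mul_div_cancel_left _ hq']
          refine ⟨Nat.pos_of_mul_pos_left hi0, ?_⟩
          rw [hDq', mul_comm p] at hin
          exact Nat.lt_of_mul_lt_mul_left hin
        · intro m _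
          exact Nat.mul_div_cancel m hq'
        · intro i hi
          simp only [Finset.mem_filter] at hi
          exact Nat.div_mul_cancel hi.2
        · intro m _; rfl
      rw [hmain, hG, ← Finset.sum_filter_add_sum_filter_not (Finset.Ioo 0 D) (fun i => p ^ t ∣ i), hres,
        add_right_comm, ← Finset.sum_add_distrib]
      refine Ideal.add_mem _ (Ideal.sum_mem _ fun m hm => ?_) (Ideal.sum_mem _ fun i hi => ?_)
      · simp only [Finset.mem_Ico] at hm
        rw [← add_mul, ← add_mul, ← map_add]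
        rw [show g.coeff (e2 (m * p ^ t) (D - m * p ^ t)) + b ^ p * (w m * w (p - m)) = 0 by
          have := sub_eq_zero.1 (Ideal.mem_bot.1 (hκm m hm.1 hm.2))
          rw [hb]
          linear_combination (w m * w (p - m)) * this -
            ((g.coeff (e2 (m * p ^ t) (D - m * p ^ t))) * ((p - m).factorial : R) * w (p - m)) * hw m hm.2 -
            (g.coeff (e2 (m * p ^ t) (D - m * p ^ t))) * hw (p - m) (by omega)]
        simp
      · simp only [Finset.mem_filter, Finset.mem_Ioo] at hi
        rw [Ideal.mem_bot.1 (hndvd i hi.1.1 hi.1.2 hi.2)]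
        simp
    · simp only [hS, Finset.mem_filter, Finset.mem_product, Finset.mem_range] at hx
      rw [mul_pow, mul_pow, ← pow_mul, ← pow_mul, mul_mul_mul_comm, ← pow_add, ← map_pow, ← mul_assoc, ← map_mul,
        ← mul_assoc]
      refine monomial_mem _ (Or.inr (Or.inr ?_))
      rw [ht, pow_succ, ← Nat.mul_add]
      exact Nat.succ_le_of_lt (Nat.mul_lt_mul_of_pos_left (by omega) (pow_pos hp.out.pos t))

/-- symmetric cocycles of `α_{p^n}` split -/
theorem exists_split (hsurj : Function.Surjective (frobenius R p)) (h : P2) (hc : TC (p ^ n) h) :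
    ∃ f : Polynomial R, f.coeff 0 = 1 ∧ ∀ {S : Type u} [CommRing S] [Algebra R S] (a b : S),
      a ^ (p ^ n) = 0 → b ^ (p ^ n) = 0 →
        Polynomial.aeval (a + b) f =
          Polynomial.aeval a f * Polynomial.aeval b f * MvPolynomial.aeval ![a, b] h := by
  set q := p ^ n with hq
  have hq0 : 0 < q := pow_pos hp.out.pos n
  suffices H : ∀ k D (h : P2), 0 < D → 2 * q ≤ D + k → TC q h → h - 1 ∈ V R (Fin 2) q D →
      ∃ f : Polynomial R, f.coeff 0 = 1 ∧ ∀ {S : Type u} [CommRing S] [Algebra R S] (a b : S),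
        a ^ q = 0 → b ^ q = 0 → Polynomial.aeval (a + b) f =
          Polynomial.aeval a f * Polynomial.aeval b f * MvPolynomial.aeval ![a, b] h by
    refine H (2 * q) 1 h one_pos (by omega) hc fun m h1 h2 => ?_
    obtain rfl : m = 0 := by rw [← Finsupp.degree_eq_zero_iff]; omega
    have hh1 : ((MvPolynomial.constantCoeff : P2 →+* R) h) = 1 := by
      have h0 := (hc (0 : R) 0 0 (zero_pow hq0.ne') (zero_pow hq0.ne') (zero_pow hq0.ne')).1
      rw [show (![0, 0] : Fin 2 → R) = 0 from funext fun k => by fin_cases k <;> rfl, MvPolynomial.aeval_zero] at h0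
      simpa using h0
    rw [MvPolynomial.coeff_sub, MvPolynomial.coeff_one, if_pos rfl]
    exact sub_eq_zero.2 hh1
  intro k
  induction k with
  | zero =>
    intro D h _ hk _ hh
    refine ⟨1, by simp, fun {S} _ _ a b ha hb => ?_⟩
    have := aeval_eq_zero (V_anti (by omega) hh) ha hb
    rw [map_sub, map_one, sub_eq_zero] at this
    rw [this, map_one, map_one, map_one, one_mul, one_mul]
  | succ k ih =>
    intro D h hD hk hc hh
    obtain ⟨f, hf0, hf⟩ := step hsurj hD hc hh
    set N := q + D + 1 with hN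
    set e : Polynomial R := ∑ i ∈ Finset.range N, (1 - f) ^ i with he
    have hfe : f * e = 1 - (1 - f) ^ N := by
      have := mul_geom_sum (1 - f) N
      rw [← he] at this
      linear_combination -this
    have hf1 : (1 - f).coeff 0 = 0 := by simp [hf0]
    have hinv : ∀ {S : Type u} [CommRing S] [Algebra R S] (a : S), a ^ q = 0 →
        Polynomial.aeval a f * Polynomial.aeval a e = 1 := fun {S} _ _ a ha => by
      obtain ⟨r, hr⟩ : Polynomial.X ∣ 1 - f := Polynomial.X_dvd_iff.2 hf1
      rw [← map_mul, hfe, hr, map_sub, map_one, map_pow, map_mul, Polynomial.aeval_X, mul_pow,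
        pow_eq_zero_of_le (by omega) ha, zero_mul, sub_zero]
    set h' := h * (Polynomial.aeval x₀ f * Polynomial.aeval x₁ f) * Polynomial.aeval (x₀ + x₁) e with hh'
    have hev : ∀ {S : Type u} [CommRing S] [Algebra R S] (a b : S), MvPolynomial.aeval ![a, b] h' =
        MvPolynomial.aeval ![a, b] h * (Polynomial.aeval a f * Polynomial.aeval b f) * Polynomial.aeval (a + b) e :=
      fun {S} _ _ a b => by
        simp only [hh', map_mul, ← Polynomial.aeval_algHom_apply, map_add, MvPolynomial.aeval_X,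
          Matrix.cons_val_zero, Matrix.cons_val_one]
    have hc' : TC q h' := fun {S} _ _ a b c ha hb hcq => by
      obtain ⟨h1, h2, h3⟩ := hc a b c ha hb hcq
      have h00 : Polynomial.aeval (0 : S) f = 1 := by
        rw [Polynomial.aeval_def, Polynomial.eval₂_at_zero, hf0, map_one]
      have hab : (a + b) ^ q = 0 := AlphaPn.add_pow_eq_zero p n R (Commute.all _ _) ha hb
      have hbc : (b + c) ^ q = 0 := AlphaPn.add_pow_eq_zero p n R (Commute.all _ _) hb hcq
      refine ⟨?_, ?_, ?_⟩
      · rw [hev, h1, h00, add_zero, one_mul, _root_.mul_one, hinv a ha]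
      · rw [hev, hev, h2, add_comm b a]; ring
      · rw [hev, hev, hev, hev, ← add_assoc]
        have e1 := hinv (a + b) hab
        have e2 := hinv (b + c) hbc
        linear_combination
          (MvPolynomial.aeval ![b, c] h * MvPolynomial.aeval ![a, b + c] h *
            (Polynomial.aeval a f * Polynomial.aeval b f * Polynomial.aeval c f *
              Polynomial.aeval (a + b + c) e)) * e2 -
          (MvPolynomial.aeval ![a + b, c] h * MvPolynomial.aeval ![a, b] h *
            (Polynomial.aeval a f * Polynomial.aeval b f * Polynomial.aeval c f *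
              Polynomial.aeval (a + b + c) e)) * e1 +
          (Polynomial.aeval a f * Polynomial.aeval b f * Polynomial.aeval c f *
              Polynomial.aeval (a + b + c) e) * h3
    have hh'1 : h' - 1 ∈ V R (Fin 2) q (D + 1) := by
      have e1 : h' - 1 = ((h - 1) * (Polynomial.aeval x₀ f * Polynomial.aeval x₁ f - 1) +
          ((h - 1) + (Polynomial.aeval x₀ f * Polynomial.aeval x₁ f - Polynomial.aeval (x₀ + x₁) f))) *
          Polynomial.aeval (x₀ + x₁) e - Polynomial.aeval (x₀ + x₁) (1 - f) ^ N := by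
        rw [← map_pow, show (1 - f) ^ N = 1 - f * e by rw [hfe]; ring, hh', map_sub, map_one, map_mul]
        ring
      rw [e1]
      refine Ideal.sub_mem _ (Ideal.mul_mem_right _ _ (Ideal.add_mem _ (V_mul hh ?_) hf)) (V_anti (by omega)
        (V_pow (aeval_sub_mem (Ideal.add_mem _ (X_mem _ _) (X_mem _ _)) hf1) N))
      have e2 : Polynomial.aeval x₀ f * Polynomial.aeval x₁ f - 1 =
          Polynomial.aeval x₀ (f - 1) * Polynomial.aeval x₁ f + Polynomial.aeval x₁ (f - 1) := by
        simp only [map_sub, map_one]; ring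
      rw [e2]
      exact Ideal.add_mem _ (Ideal.mul_mem_right _ _ (aeval_sub_mem (X_mem _ _) (by simp [hf0])))
        (aeval_sub_mem (X_mem _ _) (by simp [hf0]))
    obtain ⟨f', hf'0, hf'⟩ := ih (D + 1) h' (by omega) (by omega) hc' hh'1
    refine ⟨f * f', by simp [hf0, hf'0], fun {S} _ _ a b ha hb => ?_⟩
    have e1 := hf' a b ha hb
    rw [hev] at e1
    rw [map_mul, map_mul, map_mul, e1]
    have e2 := hinv (a + b) (AlphaPn.add_pow_eq_zero p n R (Commute.all _ _) ha hb)
    linear_combination (Polynomial.aeval a f * Polynomial.aeval b f * MvPolynomial.aeval ![a, b] h *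
      Polynomial.aeval a f' * Polynomial.aeval b f') * e2

end Groth.L07.GaExt.TruncSplit
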