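import Groth.Agent.L07.GaExt.FrobExt
import Groth.Agent.L07.GaExt.TruncSplit

/-!
# Extensions of `α_{p^n}` by the multiplicative group when Frobenius is surjective
-/

universe u

open CategoryTheory CategoryTheory.Limits CategoryTheory.Abelian AlgebraicGeometry Opposite
open MonoidalCategory CartesianMonoidalCategory MonObj
open scoped TensorProduct

set_option autoImplicit false
set_option backward.defeqAttrib.useBackward true
set_option backward.isDefEq.respectTransparency false
set_option backward.isDefEq.respectTransparency.types false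
set_option linter.style.haveILetI false
set_option maxHeartbeats 1000000
set_option synthInstance.maxHeartbeats 200000

noncomputable section

namespace Groth.L07.GaExt.AlphaExt

local notation "Kf" => Scheme.fppfPrecoverage

variable {p : ℕ} [hp : Fact p.Prime] {R : Type u} [CommRing R] [CharP R p] {n : ℕ}

variable (p R n) in
/-- the scheme `α_{p^n}` -/
abbrev alpha : Over (Spec (CommRingCat.of R)) :=
  (Spec (CommRingCat.of (AlphaPn.A p n R))).asOver (Spec (CommRingCat.of R))

local notation "B" => Spec (CommRingCat.of R)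
local notation "G" => alpha p R n

/-- the functions on `α_{p^n}` -/
abbrev αFn : AlphaPn.A p n R →+* Γ((G).left, ⊤) :=
  (Scheme.ΓSpecIso (CommRingCat.of (AlphaPn.A p n R))).inv.hom

/-- the coordinate -/
def co {T : Over B} (t : T ⟶ G) : Γ(T.left, ⊤) := fn t (αFn (AlphaPn.x p n R))

theorem co_comp {T T' : Over B} (a : T' ⟶ T) (t : T ⟶ G) : co (a ≫ t) = fn a (co t) := fn_comp a t _

theorem co_pow {T : Over B} (t : T ⟶ G) : co t ^ (p ^ n) = 0 := by
  rw [co, ← map_pow, ← map_pow, AlphaPn.x_pow, map_zero, map_zero]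

theorem αFn_algebraMap (r : R) : αFn (algebraMap R (AlphaPn.A p n R) r) = cst G r :=
  (RingHom.congr_fun (congrArg CommRingCat.Hom.hom
    (Groth.L07.GmFppf.rh_specMap (CommRingCat.ofHom (algebraMap R (AlphaPn.A p n R))))) r).symm

/-- evaluation of polynomials on a point -/
theorem fn_mk {T : Over B} (t : T ⟶ G) (f : Polynomial R) :
    fn t (αFn (AlphaPn.mk p n R f)) = Polynomial.eval₂ (cst T) (co t) f := by
  rw [← AlphaPn.aeval_x, Polynomial.aeval_def, Polynomial.hom_eval₂, Polynomial.hom_eval₂]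
  congr 1
  exact RingHom.ext fun r => by
    show fn t (αFn (algebraMap R _ r)) = cst T r
    rw [αFn_algebraMap, fn_cst]

theorem co_injective {T : Over B} : Function.Injective (co : (T ⟶ G) → Γ(T.left, ⊤)) := fun t t' e => by
  haveI : IsAffine (G).left := inferInstanceAs (IsAffine (Spec _))
  refine Over.OverMorphism.ext (ext_of_isAffine ?_)
  refine (cancel_epi (Scheme.ΓSpecIso (CommRingCat.of (AlphaPn.A p n R))).inv).1 (CommRingCat.hom_ext (RingHom.ext fun w => ?_))
  obtain ⟨f, rfl⟩ := AlphaPn.mk_surjective p n R w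
  show fn t (αFn _) = fn t' (αFn _)
  rw [fn_mk, fn_mk, e]

/-- the ring map of a point -/
def ptRing {T : Over B} (v : Γ(T.left, ⊤)) (hv : v ^ (p ^ n) = 0) : AlphaPn.A p n R →+* Γ(T.left, ⊤) :=
  AdjoinRoot.lift (cst T) v (by rw [Polynomial.eval₂_X_pow]; exact hv)

theorem ptRing_algebraMap {T : Over B} (v : Γ(T.left, ⊤)) (hv : v ^ (p ^ n) = 0) (r : R) :
    ptRing (n := n) v hv (algebraMap R (AlphaPn.A p n R) r) = cst T r := by
  show AdjoinRoot.lift (cst T) v _ (AdjoinRoot.of _ r) = _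
  exact AdjoinRoot.lift_of _

theorem ptRing_x {T : Over B} (v : Γ(T.left, ⊤)) (hv : v ^ (p ^ n) = 0) : ptRing (n := n) v hv (AlphaPn.x p n R) = v :=
  AdjoinRoot.lift_root _

/-- the point with given coordinate -/
def pt {T : Over B} (v : Γ(T.left, ⊤)) (hv : v ^ (p ^ n) = 0) : T ⟶ G :=
  Over.homMk (T.left.toSpecΓ ≫ Spec.map (CommRingCat.ofHom (ptRing (n := n) v hv))) (by
    show (_ ≫ Spec.map _) ≫ Spec.map (CommRingCat.ofHom (algebraMap R (AlphaPn.A p n R))) = T.hom
    rw [Category.assoc, ← Spec.map_comp,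
      show CommRingCat.ofHom (algebraMap R (AlphaPn.A p n R)) ≫
        CommRingCat.ofHom (ptRing (n := n) v hv) = Groth.L07.GmFppf.rh T.hom from
        CommRingCat.hom_ext (RingHom.ext fun r => ptRing_algebraMap (n := n) v hv r)]
    exact Groth.L07.GmFppf.toSpecΓ_rh T.hom)

theorem co_pt {T : Over B} (v : Γ(T.left, ⊤)) (hv : v ^ (p ^ n) = 0) : co (pt (n := n) v hv) = v := by
  show Groth.L07.GmFppf.rh (T.left.toSpecΓ ≫ Spec.map (CommRingCat.ofHom (ptRing (n := n) v hv))) (AlphaPn.x p n R) = _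
  rw [Groth.L07.GmFppf.rh_comp_specMap, Groth.L07.GmFppf.rh, Scheme.toSpecΓ_appTop, Iso.inv_hom_id, Category.comp_id]
  exact ptRing_x v hv

/-- the comparison with functions on the square -/
def ψ : AlphaPn.A p n R ⊗[R] AlphaPn.A p n R →+* Γ((G ⊗ G).left, ⊤) :=
  ((Scheme.ΓSpecIso (CommRingCat.of (AlphaPn.A p n R ⊗[R] AlphaPn.A p n R))).inv ≫
    (pullbackSpecIso R (AlphaPn.A p n R) (AlphaPn.A p n R)).hom.appTop).hom

theorem ψ_surjective : Function.Surjective (ψ (p := p) (R := R) (n := n)) := fun v => by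
  refine ⟨(Scheme.ΓSpecIso _).hom ((pullbackSpecIso R (AlphaPn.A p n R) (AlphaPn.A p n R)).inv.appTop v), ?_⟩
  show (pullbackSpecIso R (AlphaPn.A p n R) (AlphaPn.A p n R)).hom.appTop ((Scheme.ΓSpecIso _).inv _) = _
  rw [Iso.hom_inv_id_apply, ← ConcreteCategory.comp_apply, ← Scheme.Hom.comp_appTop, Iso.hom_inv_id,
    Scheme.Hom.id_appTop]
  rfl

theorem ψ_left (a : AlphaPn.A p n R) : ψ (a ⊗ₜ[R] 1) = fn (fst G G) (αFn a) := by
  have h : (fst G G).left = (pullbackSpecIso R (AlphaPn.A p n R) (AlphaPn.A p n R)).hom ≫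
      Spec.map (CommRingCat.ofHom
        (Algebra.TensorProduct.includeLeftRingHom : AlphaPn.A p n R →+* AlphaPn.A p n R ⊗[R] AlphaPn.A p n R)) := by
    rw [← pullbackSpecIso_inv_fst, Iso.hom_inv_id_assoc]
    rfl
  show _ = (fst G G).left.appTop (αFn a)
  rw [h, GmPts.appTop_comp_apply]
  refine congrArg (pullbackSpecIso R (AlphaPn.A p n R) (AlphaPn.A p n R)).hom.appTop ?_
  exact (ConcreteCategory.congr_hom (Scheme.ΓSpecIso_inv_naturality
    (CommRingCat.ofHom
      (Algebra.TensorProduct.includeLeftRingHom : AlphaPn.A p n R →+* AlphaPn.A p n R ⊗[R] AlphaPn.A p n R))) a)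

theorem ψ_right (a : AlphaPn.A p n R) : ψ (1 ⊗ₜ[R] a) = fn (snd G G) (αFn a) := by
  have h : (snd G G).left = (pullbackSpecIso R (AlphaPn.A p n R) (AlphaPn.A p n R)).hom ≫
      Spec.map (CommRingCat.ofHom (RingHomClass.toRingHom
        (Algebra.TensorProduct.includeRight : AlphaPn.A p n R →ₐ[R] AlphaPn.A p n R ⊗[R] AlphaPn.A p n R))) := by
    rw [← pullbackSpecIso_inv_snd, Iso.hom_inv_id_assoc]
    rfl
  show _ = (snd G G).left.appTop (αFn a)
  rw [h, GmPts.appTop_comp_apply]
  refine congrArg (pullbackSpecIso R (AlphaPn.A p n R) (AlphaPn.A p n R)).hom.appTop ?_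
  exact (ConcreteCategory.congr_hom (Scheme.ΓSpecIso_inv_naturality
    (CommRingCat.ofHom (RingHomClass.toRingHom
        (Algebra.TensorProduct.includeRight : AlphaPn.A p n R →ₐ[R] AlphaPn.A p n R ⊗[R] AlphaPn.A p n R)))) a)

theorem ψ_tmul (a b : AlphaPn.A p n R) : ψ (a ⊗ₜ[R] b) = fn (fst G G) (αFn a) * fn (snd G G) (αFn b) := by
  rw [← ψ_left, ← ψ_right, ← map_mul, Algebra.TensorProduct.tmul_mul_tmul, _root_.mul_one, _root_.one_mul]

theorem co_mul {T : Over B} (t t' : T ⟶ G) : co (t * t') = co t + co t' := by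
  have hμ : co μ[G] = co (fst G G) + co (snd G G) := by
    show (μ[G] : G ⊗ G ⟶ G).left.appTop (αFn _) = _
    rw [mul_spec_asOver_spec_left, GmPts.appTop_comp_apply]
    refine (congrArg (pullbackSpecIso R (AlphaPn.A p n R) (AlphaPn.A p n R)).hom.appTop
      (ConcreteCategory.congr_hom (Scheme.ΓSpecIso_inv_naturality (CommRingCat.ofHom
        (Bialgebra.comulAlgHom R (AlphaPn.A p n R)).toRingHom)) (AlphaPn.x p n R)).symm).trans ?_
    show ψ (Coalgebra.comul (R := R) (AlphaPn.x p n R)) = _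
    rw [AlphaPn.comul_x, map_add, ψ_left, ψ_right]
    rfl
  rw [Hom.mul_def, co_comp, hμ, map_add, ← co_comp, ← co_comp, lift_fst, lift_snd]

theorem co_one {T : Over B} : co (1 : T ⟶ G) = 0 := by
  have h := co_mul (1 : T ⟶ G) 1
  rw [_root_.mul_one] at h
  exact left_eq_add.1 h

/-- functions on the square are polynomials -/
theorem exists_polynomial (v : Γ((G ⊗ G).left, ⊤)) :
    ∃ h : MvPolynomial (Fin 2) R,
      ∀ (T : Over B) (t t' : T ⟶ G), fn (lift t t') v = MvPolynomial.eval₂ (cst T) ![co t, co t'] h := by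
  obtain ⟨w, rfl⟩ := ψ_surjective v
  induction w with
  | zero => exact ⟨0, fun T t t' => by rw [map_zero, map_zero, MvPolynomial.eval₂_zero]⟩
  | add a b ha hb =>
    obtain ⟨h₁, e₁⟩ := ha
    obtain ⟨h₂, e₂⟩ := hb
    exact ⟨h₁ + h₂, fun T t t' => by rw [map_add, map_add, e₁, e₂, MvPolynomial.eval₂_add]⟩
  | tmul a b =>
    obtain ⟨f, rfl⟩ := AlphaPn.mk_surjective p n R a
    obtain ⟨g, rfl⟩ := AlphaPn.mk_surjective p n R b
    refine ⟨Polynomial.aeval (MvPolynomial.X 0 : MvPolynomial (Fin 2) R) f *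
      Polynomial.aeval (MvPolynomial.X 1 : MvPolynomial (Fin 2) R) g, fun T t t' => ?_⟩
    rw [ψ_tmul, map_mul, ← fn_comp, ← fn_comp, lift_fst, lift_snd, fn_mk, fn_mk]
    show _ = MvPolynomial.eval₂Hom (cst T) ![co t, co t'] _
    rw [map_mul, Polynomial.aeval_def, Polynomial.aeval_def, Polynomial.hom_eval₂, Polynomial.hom_eval₂,
      MvPolynomial.eval₂Hom_X', MvPolynomial.eval₂Hom_X',
      show (MvPolynomial.eval₂Hom (cst T) ![co t, co t']).comp (algebraMap R (MvPolynomial (Fin 2) R)) = cst T from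
        RingHom.ext fun r => MvPolynomial.eval₂_C (cst T) _ r]
    rfl

/-- the section of the sheaf of points attached to a point -/
def ptα {T : Over B} (t : T ⟶ G) : (CGrpSh.pts Kf G).obj.obj (op T) := ULift.up (Additive.ofMul t)

variable (p R n) in
/-- the unit section -/
abbrev e0 : 𝟙_ (Over B) ⟶ G := 1

theorem surjective_e0_appTop : Function.Surjective (e0 p R n).left.appTop := fun w => by
  refine ⟨(G).hom.appTop w, ?_⟩
  rw [← ConcreteCategory.comp_apply, ← Scheme.Hom.comp_appTop, Over.w]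
  show (𝟙 B : B ⟶ B).appTop w = w
  rw [Scheme.Hom.id_appTop]; rfl

theorem surjective_e0 : Surjective (e0 p R n).left := ⟨fun x => by
  haveI : Subsingleton {y // (G).hom.base y = (G).hom.base x} := by
    have hinj : Function.Injective (G).hom.base := fun a b hab => by
      refine PrimeSpectrum.ext (Ideal.ext fun w => ?_)
      obtain ⟨f, rfl⟩ := AlphaPn.mk_surjective p n R w
      have hab' := congrArg (fun z : PrimeSpectrum R => f.coeff 0 ∈ z.asIdeal) hab
      obtain ⟨g, hg⟩ : Polynomial.X ∣ f - Polynomial.C (f.coeff 0) := Polynomial.X_dvd_iff.2 (by simp)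
      have hx : ∀ P : PrimeSpectrum (AlphaPn.A p n R),
          AlphaPn.mk p n R f ∈ P.asIdeal ↔ algebraMap R _ (f.coeff 0) ∈ P.asIdeal := fun P => by
        have hxm : AlphaPn.mk p n R (f - Polynomial.C (f.coeff 0)) ∈ P.asIdeal := by
          rw [hg, map_mul, AlphaPn.mk_X]
          refine Ideal.mul_mem_right _ _ (P.isPrime.mem_of_pow_mem (p ^ n) ?_)
          rw [AlphaPn.x_pow]; exact Ideal.zero_mem _
        rw [map_sub, Polynomial.C_eq_algebraMap, AlgHom.commutes] at hxm
        exact ⟨fun h => (Submodule.sub_mem_iff_right _ h).1 hxm, fun h => (Submodule.sub_mem_iff_left _ h).1 hxm⟩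
      rw [hx a, hx b]
      exact Eq.to_iff hab'
    exact ⟨fun y y' => Subtype.ext (hinj (y.2.trans y'.2.symm))⟩
  refine ⟨(G).hom.base x, congrArg Subtype.val (Subsingleton.elim
    (α := {y // (G).hom.base y = (G).hom.base x}) ⟨(e0 p R n).left.base ((G).hom.base x), ?_⟩ ⟨x, rfl⟩)⟩
  show ((e0 p R n).left ≫ (G).hom).base _ = _
  rw [Over.w]
  rfl⟩

/-- invertible modules trivial along the unit section are trivial -/
theorem nonempty_iso_alpha {L : (G).left.Modules} (hL : PicF.IsInvertible L)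
    (h0 : Nonempty ((Scheme.Modules.pullback (e0 p R n).left).obj L ≅ Coh.structureModule _)) :
    Nonempty (L ≅ Coh.structureModule (G).left) := by
  haveI : IsAffine (G).left := inferInstanceAs (IsAffine (Spec _))
  haveI : IsAffine (𝟙_ (Over B)).left := inferInstanceAs (IsAffine B)
  haveI := surjective_e0 (p := p) (R := R) (n := n)
  exact nonempty_iso_of_pullback_trivial _ surjective_e0_appTop hL h0

/-- homomorphisms into quotients by units lift -/
theorem exists_hom_lift_alpha (hF : Function.Surjective (frobenius R p))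
    {Sh : ShortComplex (BigSite.Ab Kf B)} (hSh : Sh.ShortExact) (i₁ : Sh.X₁.obj ≅ GmPts.unitsPre B)
    (φ : CGrpSh.pts Kf G ⟶ Sh.X₃) : ∃ ψ : CGrpSh.pts Kf G ⟶ Sh.X₂, ψ ≫ Sh.g = φ := by
  let I := Sh.X₂.obj
  let q := φ.hom.app (op G) (ptα (𝟙 G))
  let z0 : 𝟙_ (Over B) ⟶ G := e0 p R n
  have hφ : ∀ (T : Over B) (t : T ⟶ G),
      Sh.X₃.obj.map t.op q = φ.hom.app (op T) (ptα t) := fun T t =>
    (NatTrans.naturality_apply φ.hom t.op (ptα (𝟙 G))).symm.trans
      (congrArg (φ.hom.app (op T)) (congrArg ULift.up (congrArg Additive.ofMul (Category.comp_id t))))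
  have hq0 : Sh.X₃.obj.map z0.op q = 0 := (hφ _ z0).trans (map_zero _)
  obtain ⟨L, hL, hlift, htriv⟩ := exists_module_of_section i₁ hSh q
  obtain ⟨s₀, hs₀⟩ := hlift (nonempty_iso_alpha hL (htriv _ z0 hq0))
  let s := s₀ - I.map (toUnit G).op (I.map z0.op s₀)
  have hs : Sh.g.hom.app (op G) s = q := by
    rw [map_sub, NatTrans.naturality_apply Sh.g.hom (toUnit G).op, NatTrans.naturality_apply Sh.g.hom z0.op, hs₀, hq0,
      map_zero, sub_zero]
  let at' : ∀ {T : Over B} (_ : T ⟶ G) (_ : I.obj (op G)), I.obj (op T) := fun t y => I.map t.op y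
  have at_comp : ∀ {T T' : Over B} (a : T' ⟶ T) (t : T ⟶ G) (y : I.obj (op G)),
      I.map a.op (at' t y) = at' (a ≫ t) y := fun a t y => by
    show I.map a.op (I.map t.op y) = I.map (a ≫ t).op y
    rw [op_comp, Functor.map_comp, ConcreteCategory.comp_apply]
  have hs0 : ∀ T : Over B, at' (1 : T ⟶ G) s = 0 := fun T => by
    rw [show (1 : T ⟶ G) = toUnit T ≫ z0 from (MonObj.comp_one _).symm, ← at_comp]
    have : at' z0 s = 0 := by
      show I.map z0.op (s₀ - I.map (toUnit G).op (I.map z0.op s₀)) = 0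
      rw [map_sub, ← ConcreteCategory.comp_apply (I.map (toUnit G).op), ← Functor.map_comp, ← op_comp,
        show z0 ≫ toUnit G = 𝟙 _ from toUnit_unique _ _, op_id, CategoryTheory.Functor.map_id]
      exact sub_self _
    rw [this, map_zero]
  let U : ∀ {T : Over B}, Γ(T.left, ⊤)ˣ → I.obj (op T) := fun {T} u =>
    Sh.f.hom.app (op T) (i₁.inv.app (op T) (GmPts.sectOfUnit (T := op T) u))
  have hU_mul : ∀ {T : Over B} (a b : Γ(T.left, ⊤)ˣ), U (a * b) = U a + U b := fun {T} a b => by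
    show Sh.f.hom.app _ (i₁.inv.app _ _) = Sh.f.hom.app _ (i₁.inv.app _ _) + Sh.f.hom.app _ (i₁.inv.app _ _)
    rw [← map_add, ← map_add]
    rfl
  have hU_one : ∀ {T : Over B}, U (1 : Γ(T.left, ⊤)ˣ) = 0 := fun {T} => by
    show Sh.f.hom.app _ (i₁.inv.app _ 0) = 0
    rw [map_zero, map_zero]
  have hU_nat : ∀ {T T' : Over B} (a : T' ⟶ T) (b : Γ(T.left, ⊤)ˣ),
      I.map a.op (U b) = U (Units.map (fn a).hom.toMonoidHom b) := fun a b =>
    ((NatTrans.naturality_apply Sh.f.hom a.op _).symm).trans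
      (congrArg (Sh.f.hom.app _) (NatTrans.naturality_apply i₁.inv a.op _).symm)
  have hU_inj : ∀ {T : Over B} {a b : Γ(T.left, ⊤)ˣ}, U a = U b → a = b := fun {T a b} h =>
    congrArg GmPts.unitOfSect (ConcreteCategory.injective_of_mono_of_preservesPullback (i₁.inv.app (op T))
      ((sections_left_exact hSh T).1 h))
  let c : I.obj (op (G ⊗ G)) := at' (fst G G) s + at' (snd G G) s - at' μ[G] s
  have hc0 : Sh.g.hom.app _ c = 0 := by
    show Sh.g.hom.app _ (I.map (fst G G).op s + I.map (snd G G).op s - I.map μ[G].op s) = 0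
    rw [map_sub, map_add, NatTrans.naturality_apply Sh.g.hom (fst G G).op, NatTrans.naturality_apply Sh.g.hom (snd G G).op,
      NatTrans.naturality_apply Sh.g.hom μ[G].op, hs, hφ, hφ, hφ, ← map_add, sub_eq_zero]
    refine congrArg (φ.hom.app _) (congrArg ULift.up (congrArg Additive.ofMul ?_))
    show fst G G * snd G G = μ[G]
    rw [Hom.mul_def, lift_fst_snd, Category.id_comp]
  obtain ⟨v, hv⟩ := (sections_left_exact hSh (G ⊗ G)).2 c hc0
  obtain ⟨v, rfl⟩ : ∃ u, i₁.inv.app (op (G ⊗ G)) (GmPts.sectOfUnit (T := op (G ⊗ G)) u) = v :=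
    ⟨GmPts.unitOfSect (i₁.hom.app (op (G ⊗ G)) v),
      ConcreteCategory.congr_hom (i₁.hom_inv_id_app (op (G ⊗ G))) v⟩
  obtain ⟨h, hhv⟩ := exists_polynomial (v : Γ((G ⊗ G).left, ⊤))
  let Vu : ∀ {T : Over B} (_ _ : T ⟶ G), Γ(T.left, ⊤)ˣ := fun t t' => Units.map (fn (lift t t')).hom.toMonoidHom v
  have hV : ∀ {T : Over B} (t t' : T ⟶ G), U (Vu t t') = at' t s + at' t' s - at' (t * t') s := fun t t' => by
    rw [← hU_nat]
    show I.map (lift t t').op (Sh.f.hom.app _ _) = _
    rw [hv]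
    show I.map (lift t t').op (at' (fst G G) s + at' (snd G G) s - at' μ[G] s) = _
    rw [map_sub, map_add, at_comp, at_comp, at_comp, lift_fst, lift_snd, ← Hom.mul_def]
  have hVval : ∀ {T : Over B} (t t' : T ⟶ G),
      ((Vu t t' : Γ(T.left, ⊤)ˣ) : Γ(T.left, ⊤)) = MvPolynomial.eval₂ (cst T) ![co t, co t'] h := fun t t' =>
    hhv _ t t'
  -- the cocycle identities on affine test objects
  have hc : TruncSplit.TC (p ^ n) h := fun {S} _ _ a b c ha hb hcq => by
    let T : Over B := Over.mk (Spec.map (CommRingCat.ofHom (algebraMap R S)))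
    let em : S →+* Γ(T.left, ⊤) := (Scheme.ΓSpecIso (CommRingCat.of S)).inv.hom
    have em_inj : Function.Injective em :=
      (Scheme.ΓSpecIso (CommRingCat.of S)).commRingCatIsoToRingEquiv.symm.injective
    have hem : cst T = em.comp (algebraMap R S) :=
      congrArg CommRingCat.Hom.hom (Groth.L07.GmFppf.rh_specMap (CommRingCat.ofHom (algebraMap R S)))
    let P : ∀ a : S, a ^ (p ^ n) = 0 → (T ⟶ G) := fun a ha => pt (em a) (by rw [← map_pow, ha, map_zero])
    have hP : ∀ a ha, co (P a ha) = em a := fun a ha => co_pt _ _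
    have hPV : ∀ (a b : S) (ha : a ^ (p ^ n) = 0) (hb : b ^ (p ^ n) = 0),
        em (MvPolynomial.aeval ![a, b] h) = ((Vu (P a ha) (P b hb) : Γ(T.left, ⊤)ˣ) : Γ(T.left, ⊤)) :=
      fun a b ha hb => by
        rw [hVval, hP a ha, hP b hb, MvPolynomial.aeval_def, hem]
        show em (MvPolynomial.eval₂Hom _ _ h) = _
        rw [MvPolynomial.coe_eval₂Hom, MvPolynomial.eval₂_comp_left]
        congr 1
        funext i
        fin_cases i <;> rfl
    have hPadd : ∀ (a b : S) (ha : a ^ (p ^ n) = 0) (hb : b ^ (p ^ n) = 0),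
        P (a + b) (AlphaPn.add_pow_eq_zero p n R (Commute.all _ _) ha hb) = P a ha * P b hb :=
      fun a b ha hb => co_injective (by simp only [co_mul, hP, map_add])
    have hP0 : P 0 (zero_pow (pow_ne_zero n hp.out.ne_zero)) = 1 := co_injective (by simp only [hP, co_one, map_zero])
    refine ⟨em_inj ?_, em_inj ?_, em_inj ?_⟩
    · rw [hPV a 0 ha (zero_pow (pow_ne_zero n hp.out.ne_zero)), map_one, hP0]
      refine (congrArg Units.val (hU_inj (b := 1) ?_)).trans Units.val_one
      rw [hV, hU_one, hs0, show P a ha * 1 = P a ha from co_injective (by rw [co_mul, co_one, add_zero]), add_zero,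
        sub_self]
    · rw [hPV b a hb ha, hPV a b ha hb]
      refine congrArg Units.val (hU_inj ?_)
      rw [hV, hV, mul_comm (P b hb)]
      abel
    · rw [map_mul, map_mul, hPV b c hb hcq, hPV a (b + c) ha (AlphaPn.add_pow_eq_zero p n R (Commute.all _ _) hb hcq),
        hPV (a + b) c (AlphaPn.add_pow_eq_zero p n R (Commute.all _ _) ha hb) hcq, hPV a b ha hb,
        ← Units.val_mul, ← Units.val_mul]
      refine congrArg Units.val (hU_inj ?_)
      rw [hU_mul, hU_mul, hV, hV, hV, hV, hPadd a b ha hb, hPadd b c hb hcq, _root_.mul_assoc]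
      abel
  obtain ⟨f, hf0, hfeq⟩ := TruncSplit.exists_split hF h hc
  have hFu : ∀ {T : Over B} (t : T ⟶ G), IsUnit (Polynomial.eval₂ (cst T) (co t) f) := fun {T} t => by
    obtain ⟨r, hr⟩ : Polynomial.X ∣ f - 1 := Polynomial.X_dvd_iff.2 (by simp [hf0])
    rw [show f = 1 + Polynomial.X * r by rw [← hr]; ring, Polynomial.eval₂_add, Polynomial.eval₂_one,
      Polynomial.eval₂_mul, Polynomial.eval₂_X]
    exact ((Commute.all _ _).isNilpotent_mul_right ⟨p ^ n, co_pow t⟩).isUnit_one_add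
  let F : ∀ {T : Over B} (_ : T ⟶ G), Γ(T.left, ⊤)ˣ := fun {T} t => (hFu t).unit
  have hFnat : ∀ {T T' : Over B} (a : T' ⟶ T) (t : T ⟶ G), Units.map (fn a).hom.toMonoidHom (F t) = F (a ≫ t) :=
    fun {T T'} a t => Units.ext (by
      show (fn a).hom (Polynomial.eval₂ (cst T) (co t) f) = Polynomial.eval₂ (cst T') (co (a ≫ t)) f
      rw [Polynomial.hom_eval₂, co_comp,
        show (fn a).hom.comp (cst T) = cst T' from RingHom.ext (fn_cst a)])
  have hFmul : ∀ {T : Over B} (t t' : T ⟶ G), F (t * t') = F t * F t' * Vu t t' := fun {T} t t' => Units.ext (by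
    show Polynomial.eval₂ (cst T) (co (t * t')) f = Polynomial.eval₂ (cst T) (co t) f *
      Polynomial.eval₂ (cst T) (co t') f * (Vu t t' : Γ(T.left, ⊤)ˣ)
    rw [hVval, co_mul]
    letI : Algebra R Γ(T.left, ⊤) := (cst T).toAlgebra
    exact hfeq (co t) (co t') (co_pow t) (co_pow t'))
  let s' : I.obj (op G) := s + U (F (𝟙 G))
  have hat' : ∀ {T : Over B} (t : T ⟶ G), at' t s' = at' t s + U (F t) := fun t => by
    show I.map t.op (s + U (F (𝟙 G))) = I.map t.op s + U (F t)
    rw [map_add, hU_nat, hFnat, Category.comp_id]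
  have hadd : ∀ {T : Over B} (t t' : T ⟶ G), at' (t * t') s' = at' t s' + at' t' s' := fun t t' => by
    rw [hat', hat', hat', hFmul, hU_mul, hU_mul, hV]
    abel
  have hs' : Sh.g.hom.app (op G) s' = q := by
    show Sh.g.hom.app (op G) (s + U (F (𝟙 G))) = q
    rw [map_add, hs]
    exact (congrArg (q + ·) (ConcreteCategory.congr_hom
      (congrArg (fun χ : Sh.X₁ ⟶ Sh.X₃ => χ.hom.app (op G)) Sh.zero) _)).trans (add_zero q)
  let ψ' : CGrpSh.pts Kf G ⟶ Sh.X₂ :=
    ⟨{ app := fun T => AddCommGrpCat.ofHom (AddMonoidHom.mk' (M := (CGrpSh.pts Kf G).obj.obj T)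
          (fun x : (CGrpSh.pts Kf G).obj.obj T => at' (x.down.toMul : T.unop ⟶ G) s')
          fun x y => hadd x.down.toMul y.down.toMul)
       naturality := fun {T T'} k => AddCommGrpCat.ext fun x =>
         (at_comp k.unop (x.down.toMul : T.unop ⟶ G) s').symm }⟩
  refine ⟨ψ', Sheaf.hom_ext (NatTrans.ext (funext fun T => AddCommGrpCat.ext fun x => ?_))⟩
  show Sh.g.hom.app T (I.map (x.down.toMul : T.unop ⟶ G).op s') = φ.hom.app T x
  rw [NatTrans.naturality_apply Sh.g.hom (x.down.toMul : T.unop ⟶ G).op, hs']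
  exact hφ T.unop x.down.toMul

/-- extensions of `α_{p^n}` by the multiplicative group are trivial when Frobenius is surjective -/
theorem subsingleton_ext_one_alpha (hF : Function.Surjective (frobenius R p)) :
    Subsingleton (CGrpSh.ExtS Kf (alpha p R n) (Red.Gm B) 1) := by
  let M := CGrpSh.pts Scheme.fppfPrecoverage (Red.Gm B)
  let Sh : ShortComplex (BigSite.Ab Kf B) :=
    ShortComplex.mk (Injective.ι M) (cokernel.π (Injective.ι M)) (cokernel.condition _)
  have hSh : Sh.ShortExact := { exact := ShortComplex.exact_of_g_is_cokernel _ (cokernelIsCokernel _) }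
  suffices H : ∀ x : CGrpSh.ExtS Kf (alpha p R n) (Red.Gm B) 1, x = 0 from ⟨fun x y => (H x).trans (H y).symm⟩
  intro x
  obtain ⟨z, hz⟩ := Ext.covariant_sequence_exact₁ _ hSh x (Ext.eq_zero_of_injective _) (zero_add 1)
  obtain ⟨φ, rfl⟩ := (Ext.mk₀_bijective _ _).2 z
  obtain ⟨ψ, hψ⟩ := exists_hom_lift_alpha hF hSh (GmPts.ptsUnitsPreIso B) φ
  rw [← hz, ← hψ, ← Ext.mk₀_comp_mk₀, Ext.comp_assoc_of_second_deg_zero, hSh.comp_extClass, Ext.comp_zero]

end Groth.L07.GaExt.AlphaExt
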