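import Groth.Agent.L07.GaExt.UnitsConst
import Groth.Agent.L07.GaExt.HomShAcyclic
import Groth.Agent.L07.GmFppf.Field
import Groth.Agent.L07.GmFppf.GaFlat
import Groth.Agent.L07.BiextTriv.HomShZero
import Groth.Agent.S0236
import Groth.Prelude.Def_HRes

/-!
# Extensions of the additive group by the multiplicative group over a reduced base
-/

universe u

open CategoryTheory CategoryTheory.Limits CategoryTheory.Abelian AlgebraicGeometry Opposite
open MonoidalCategory CartesianMonoidalCategory MonObj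

set_option autoImplicit false
set_option backward.defeqAttrib.useBackward true
set_option backward.isDefEq.respectTransparency false
set_option backward.isDefEq.respectTransparency.types false
set_option linter.style.haveILetI false
set_option maxHeartbeats 800000

noncomputable section

namespace Groth.L07.GaExt

local notation "Kf" => Scheme.fppfPrecoverage

/-- first flat cohomology of units vanishes if invertible modules are trivial -/
theorem subsingleton_HF_GmF_of_pic (Y : Scheme.{u})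
    (hPic : ∀ L : Y.Modules, PicF.IsInvertible L → Nonempty (L ≅ Coh.structureModule Y)) :
    Subsingleton (EtFppf.HF Y (EtDl.GmF Y) 1) := by
  obtain ⟨e⟩ := Groth.L07.GmFppf.nonempty_H_equiv_of_acyclic Y (EtDl.GmF Y)
    (fun r hr => Groth.L07.GmFppf.isZero_RaPush_units Y r hr) 1
  haveI := (Groth.Agent.S0236.result Y).2 hPic
  have i := Groth.L07.GmFppf.aPushGmIso Y
  let f : EtCoh.H Y ((EtFppf.aPush Y).obj (EtDl.GmF Y)) 1 → EtCoh.H Y (EtCoh.Gm Y) 1 :=
    fun z => z.comp (Ext.mk₀ i.hom) (add_zero 1)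
  have hf : Function.Injective f := Function.LeftInverse.injective
    (g := fun z => z.comp (Ext.mk₀ i.inv) (add_zero 1)) fun z => by simp [f]
  haveI : Subsingleton (EtCoh.H Y ((EtFppf.aPush Y).obj (EtDl.GmF Y)) 1) := hf.subsingleton
  exact e.symm.injective.subsingleton

/-- an extension by units splits on sections where invertible modules are trivial -/
theorem surjective_sections {X : Scheme.{u}} {Sh : ShortComplex (BigSite.Ab Kf X)} (hSh : Sh.ShortExact)
    (i₁ : Sh.X₁.obj ≅ GmPts.unitsPre X) (T : Over X)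
    (hPic : ∀ L : T.left.Modules, PicF.IsInvertible L → Nonempty (L ≅ Coh.structureModule T.left)) :
    Function.Surjective (Sh.g.hom.app (op T)) := by
  let M := BigSite.pullBig Kf T.hom AddCommGrpCat.{u + 1}
  have hM : (Sh.map M).ShortExact := hSh.map_of_exact M
  let eG : (M.obj Sh.X₁) ≅ EtDl.GmF T.left := (fullyFaithfulSheafToPresheaf _ _).preimageIso
    (Functor.isoWhiskerLeft (Over.map T.hom).op i₁ ≪≫ Groth.L07.GmFppf.unitsPullIso T.hom)
  haveI := subsingleton_HF_GmF_of_pic T.left hPic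
  intro q
  let e : (Over.map T.hom).obj (Over.mk (𝟙 T.left)) ≅ T := Over.isoMk (Iso.refl _) (by simp)
  let hter : IsTerminal (Over.mk (𝟙 T.left)) := Over.mkIdTerminal
  let z : BigSite.H Kf T.left (M.obj Sh.X₃) 0 := (Sheaf.H.equiv₀ _ hter).symm (Sh.X₃.obj.map e.hom.op q)
  have h0 : z.comp hM.extClass (zero_add 1) = 0 := by
    have h1 : (z.comp hM.extClass (zero_add 1)).comp (Ext.mk₀ eG.hom) (add_zero 1) = 0 :=
      Subsingleton.elim (α := EtFppf.HF T.left (EtDl.GmF T.left) 1) _ _
    have h2 := congrArg (fun x => Ext.comp x (Ext.mk₀ eG.inv) (add_zero 1)) h1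
    simpa using h2
  obtain ⟨y, hy⟩ := Ext.covariant_sequence_exact₃ _ hM z (zero_add 1) h0
  refine ⟨Sh.X₂.obj.map e.inv.op (Sheaf.H.equiv₀ (M.obj Sh.X₂) hter y), ?_⟩
  rw [NatTrans.naturality_apply Sh.g.hom e.inv.op]
  have h3 : Sh.g.hom.app _ (Sheaf.H.equiv₀ (M.obj Sh.X₂) hter y) = Sh.X₃.obj.map e.hom.op q := by
    refine (Sheaf.H.equiv₀_naturality (f := M.map Sh.g) (hT := hter) y).trans ?_
    rw [show Sheaf.H.map (M.map Sh.g) 0 y = z from hy]
    exact AddEquiv.apply_symm_apply _ _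
  refine (congrArg (Sh.X₃.obj.map e.inv.op) h3).trans ?_
  rw [← ConcreteCategory.comp_apply, ← Functor.map_comp, ← op_comp, e.inv_hom_id, op_id, CategoryTheory.Functor.map_id]
  rfl

section Ga

variable {X : Scheme.{u}}

local notation "G" => Red.Ga X
local notation "Gs" => CGrpSh.pts Scheme.fppfPrecoverage (Red.Ga X)

/-- a point as a section of the sheaf of points -/
abbrev ptSec {T : Over X} (t : T ⟶ G) : (CGrpSh.pts Scheme.fppfPrecoverage (Red.Ga X)).obj.obj (op T) :=
  ULift.up (Additive.ofMul t)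

theorem mul_ptSec : (Gs).obj.map (fst G G).op (ptSec (𝟙 G)) + (Gs).obj.map (snd G G).op (ptSec (𝟙 G)) =
    (Gs).obj.map μ[G].op (ptSec (𝟙 G)) := by
  refine congrArg ULift.up (congrArg Additive.ofMul ?_)
  show (fst G G ≫ 𝟙 G) * (snd G G ≫ 𝟙 G) = μ[G] ≫ 𝟙 G
  rw [Category.comp_id, Category.comp_id, Category.comp_id, Hom.mul_def, lift_fst_snd, Category.id_comp]

/-- homomorphisms into quotients by units lift -/
theorem exists_hom_lift [IsReduced X]
    (hPic : ∀ L : (G).left.Modules, PicF.IsInvertible L → Nonempty (L ≅ Coh.structureModule (G).left))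
    {Sh : ShortComplex (BigSite.Ab Kf X)} (hSh : Sh.ShortExact) (i₁ : Sh.X₁.obj ≅ GmPts.unitsPre X)
    (φ : Gs ⟶ Sh.X₃) : ∃ ψ : Gs ⟶ Sh.X₂, ψ ≫ Sh.g = φ := by
  obtain ⟨s, hs⟩ := surjective_sections hSh i₁ G hPic (φ.hom.app (op G) (ptSec (𝟙 G)))
  let I := Sh.X₂.obj
  let c : I.obj (op (G ⊗ G)) := I.map (fst G G).op s + I.map (snd G G).op s - I.map μ[G].op s
  have hc : Sh.g.hom.app _ c = 0 := by
    rw [map_sub, map_add, NatTrans.naturality_apply Sh.g.hom (fst G G).op, NatTrans.naturality_apply Sh.g.hom (snd G G).op,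
      NatTrans.naturality_apply Sh.g.hom μ[G].op, hs, ← NatTrans.naturality_apply φ.hom (fst G G).op,
      ← NatTrans.naturality_apply φ.hom (snd G G).op, ← NatTrans.naturality_apply φ.hom μ[G].op, ← map_add,
      mul_ptSec, sub_self]
  obtain ⟨v, hv⟩ := (sections_left_exact hSh (G ⊗ G)).2 c hc
  let o : 𝟙_ (Over X) ⟶ G ⊗ G := lift 1 1
  let v₀ := Sh.X₁.obj.map o.op v
  have hv₀ : Sh.X₁.obj.map (toUnit (G ⊗ G)).op v₀ = v := by
    refine (ConcreteCategory.injective_of_mono_of_preservesPullback (i₁.hom.app (op (G ⊗ G)))) ?_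
    rw [NatTrans.naturality_apply i₁.hom (toUnit (G ⊗ G)).op, NatTrans.naturality_apply i₁.hom o.op]
    refine (GmPts.sectOfUnit_unitOfSect _).symm.trans ((congrArg GmPts.sectOfUnit ?_).trans (GmPts.sectOfUnit_unitOfSect _))
    refine Units.ext ?_
    exact (units_const _ (Units.isUnit (GmPts.unitOfSect (i₁.hom.app (op (G ⊗ G)) v)))).symm
  let a : I.obj (op (𝟙_ (Over X))) := Sh.f.hom.app _ v₀
  let s' : I.obj (op G) := s - I.map (toUnit G).op a
  have hadd : I.map (fst G G).op s' + I.map (snd G G).op s' = I.map μ[G].op s' := by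
    have ha : ∀ k : G ⊗ G ⟶ G, I.map k.op (I.map (toUnit G).op a) = c := fun k => by
      rw [← ConcreteCategory.comp_apply, ← Functor.map_comp, ← op_comp, toUnit_unique (k ≫ toUnit G) (toUnit (G ⊗ G))]
      exact (NatTrans.naturality_apply Sh.f.hom (toUnit (G ⊗ G)).op v₀).symm.trans ((congrArg _ hv₀).trans hv)
    simp only [s', map_sub, ha]
    simp only [c]
    abel
  have hs' : Sh.g.hom.app (op G) s' = φ.hom.app (op G) (ptSec (𝟙 G)) := by
    have h0 : Sh.g.hom.app _ (Sh.f.hom.app (op (𝟙_ (Over X))) v₀) = 0 :=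
      ConcreteCategory.congr_hom (congrArg (fun χ : Sh.X₁ ⟶ Sh.X₃ => χ.hom.app (op (𝟙_ (Over X)))) Sh.zero) v₀
    rw [map_sub, hs, NatTrans.naturality_apply Sh.g.hom (toUnit G).op, h0, map_zero, sub_zero]
  let ψ : Gs ⟶ Sh.X₂ :=
    ⟨{ app := fun T => AddCommGrpCat.ofHom (AddMonoidHom.mk'
          (M := (Gs).obj.obj T) (fun x : (Gs).obj.obj T => I.map (x.down.toMul : T.unop ⟶ G).op s') fun x y => by
            show I.map ((x.down.toMul * y.down.toMul : T.unop ⟶ G)).op s' = _
            rw [Hom.mul_def, op_comp, Functor.map_comp, ConcreteCategory.comp_apply, ← hadd, map_add,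
              ← ConcreteCategory.comp_apply, ← Functor.map_comp, ← op_comp, lift_fst, ← ConcreteCategory.comp_apply,
              ← Functor.map_comp, ← op_comp, lift_snd])
       naturality := fun {T T'} k => AddCommGrpCat.ext fun x => by
         show I.map (k.unop ≫ x.down.toMul).op s' = I.map k (I.map (x.down.toMul : T.unop ⟶ G).op s')
         rw [op_comp, Functor.map_comp, ConcreteCategory.comp_apply, Quiver.Hom.op_unop] }⟩
  refine ⟨ψ, Sheaf.hom_ext (NatTrans.ext (funext fun T => AddCommGrpCat.ext fun x => ?_))⟩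
  show Sh.g.hom.app T (I.map (x.down.toMul : T.unop ⟶ G).op s') = φ.hom.app T x
  rw [NatTrans.naturality_apply Sh.g.hom (x.down.toMul : T.unop ⟶ G).op, hs',
    ← NatTrans.naturality_apply φ.hom (x.down.toMul : T.unop ⟶ G).op]
  exact congrArg (φ.hom.app T) (congrArg ULift.up (congrArg Additive.ofMul (Category.comp_id _)))

/-- extensions of the additive group by the multiplicative group are trivial -/
theorem subsingleton_ext_one [IsReduced X]
    (hPic : ∀ L : (G).left.Modules, PicF.IsInvertible L → Nonempty (L ≅ Coh.structureModule (G).left)) :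
    Subsingleton (CGrpSh.ExtS Kf (Red.Ga X) (Red.Gm X) 1) := by
  let M := CGrpSh.pts Scheme.fppfPrecoverage (Red.Gm X)
  let Sh : ShortComplex (BigSite.Ab Kf X) :=
    ShortComplex.mk (Injective.ι M) (cokernel.π (Injective.ι M)) (cokernel.condition _)
  have hSh : Sh.ShortExact := { exact := ShortComplex.exact_of_g_is_cokernel _ (cokernelIsCokernel _) }
  suffices H : ∀ x : CGrpSh.ExtS Kf (Red.Ga X) (Red.Gm X) 1, x = 0 from ⟨fun x y => (H x).trans (H y).symm⟩
  intro x
  obtain ⟨z, hz⟩ := Ext.covariant_sequence_exact₁ _ hSh x (Ext.eq_zero_of_injective _) (zero_add 1)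
  obtain ⟨φ, rfl⟩ := (Ext.mk₀_bijective _ _).2 z
  obtain ⟨ψ, hψ⟩ := exists_hom_lift hPic hSh (GmPts.ptsUnitsPreIso X) φ
  rw [← hz, ← hψ, ← Ext.mk₀_comp_mk₀, Ext.comp_assoc_of_second_deg_zero, hSh.comp_extClass, Ext.comp_zero]

/-- first cohomology of an internal Hom injects into extensions -/
theorem subsingleton_H_one_homSh_of_ext (F M : BigSite.Ab Kf X) (hE : Subsingleton (Abelian.Ext.{u + 1} F M 1)) :
    Subsingleton (BigSite.H Kf X (HomSh.homSh (QuotSh.J Scheme.fppfPrecoverage X) F M) 1) := by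
  let Sh : ShortComplex (BigSite.Ab Kf X) :=
    ShortComplex.mk (Injective.ι M) (cokernel.π (Injective.ι M)) (cokernel.condition _)
  have hSh : Sh.ShortExact := { exact := ShortComplex.exact_of_g_is_cokernel _ (cokernelIsCokernel _) }
  let J := QuotSh.J Scheme.fppfPrecoverage X
  haveI := hSh.mono_f
  haveI := Groth.L07.BiextTriv.mono_homSh (K := Scheme.fppfPrecoverage) F Sh.f
  let a := HomSh.homShMap J (𝟙 F) Sh.f
  let b := HomSh.homShMap J (𝟙 F) Sh.g
  have hab := Groth.L07.BiextTriv.exact_homSh (K := Scheme.fppfPrecoverage) F Sh hSh.exact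
  let T : ShortComplex (BigSite.Ab Kf X) := ShortComplex.mk a (cokernel.π a) (cokernel.condition a)
  have hT : T.ShortExact := { exact := ShortComplex.exact_of_g_is_cokernel _ (cokernelIsCokernel _) }
  have hz : a ≫ b = 0 := by
    show HomSh.homShMap J _ _ ≫ HomSh.homShMap J _ _ = 0
    rw [← HomSh.homShMap_comp, Sh.zero, Category.comp_id]
    exact (HomSh.homShFunctor J F).map_zero _ _
  let m : cokernel a ⟶ HomSh.homSh J F Sh.X₃ := cokernel.desc a b hz
  haveI : Mono m := hab.mono_cokernelDesc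
  haveI := subsingleton_H_one_homSh (K := Scheme.fppfPrecoverage) (X := X) (F := F) (I := Sh.X₂)
  suffices H : ∀ x : BigSite.H Kf X T.X₁ 1, x = 0 from ⟨fun x y => (H x).trans (H y).symm⟩
  intro x
  obtain ⟨z, hzx⟩ := Ext.covariant_sequence_exact₁ _ hT x (Subsingleton.elim (α := BigSite.H Kf X T.X₂ 1) _ _) (zero_add 1)
  let hter : IsTerminal (Over.mk (𝟙 X)) := Over.mkIdTerminal
  let k := Sheaf.H.equiv₀ (T.X₃) hter z
  let θ : (F).over (Over.mk (𝟙 X)) ⟶ Sh.X₃.over (Over.mk (𝟙 X)) := m.hom.app _ k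
  let φ : F ⟶ Sh.X₃ :=
    ⟨{ app := fun U => θ.hom.app (op (Over.mk (Over.mkIdTerminal.from U.unop)))
       naturality := fun {U U'} c => θ.hom.naturality
        (Over.homMk c.unop (Over.mkIdTerminal.hom_ext _ _) :
          Over.mk (Over.mkIdTerminal.from U'.unop) ⟶ Over.mk (Over.mkIdTerminal.from U.unop)).op }⟩
  obtain ⟨w, hw⟩ := Ext.covariant_sequence_exact₃ F hSh (Ext.mk₀ φ) (zero_add 1) (Subsingleton.elim _ _)
  obtain ⟨ψ, rfl⟩ := (Ext.mk₀_bijective _ _).2 w
  rw [Ext.mk₀_comp_mk₀] at hw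
  have hψ : ψ ≫ Sh.g = φ := (Ext.mk₀_bijective _ _).1 hw
  let y : (HomSh.homSh J F Sh.X₂).obj.obj (op (Over.mk (𝟙 X))) :=
    (J.overPullback AddCommGrpCat.{u + 1} (Over.mk (𝟙 X))).map ψ
  have hy : b.hom.app (op (Over.mk (𝟙 X))) y = θ := by
    refine (HomSh.homShMap_app_apply J _ _ _ _).trans ?_
    rw [CategoryTheory.Functor.map_id, Category.id_comp]
    refine ((J.overPullback AddCommGrpCat.{u + 1} (Over.mk (𝟙 X))).map_comp ψ Sh.g).symm.trans ?_
    rw [hψ]
    refine Sheaf.hom_ext (NatTrans.ext (funext fun U => ?_))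
    obtain ⟨U⟩ := U
    show θ.hom.app (op (Over.mk (Over.mkIdTerminal.from U.left))) = θ.hom.app (op U)
    rw [show Over.mkIdTerminal.from U.left = U.hom from Over.mkIdTerminal.hom_ext _ _]
    rfl
  have hk : T.g.hom.app (op (Over.mk (𝟙 X))) y = k := by
    haveI : Mono ((Groth.L27.FppfCmp.secF (K := Scheme.fppfPrecoverage) (Over.mk (𝟙 X))).map m) := inferInstance
    refine (AddCommGrpCat.mono_iff_injective _).1 this ?_
    exact (ConcreteCategory.congr_hom (congrArg (fun χ : T.X₂ ⟶ _ => χ.hom.app (op (Over.mk (𝟙 X))))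
      (cokernel.π_desc a b hz)) y).trans hy
  have e : z = Sheaf.H.map T.g 0 ((Sheaf.H.equiv₀ T.X₂ hter).symm y) := by
    rw [Sheaf.H.equiv₀_symm_naturality, hk, AddEquiv.symm_apply_apply]
  rw [← hzx, e]
  show (Ext.comp _ (Ext.mk₀ T.g) (add_zero 0)).comp hT.extClass (zero_add 1) = 0
  rw [Ext.comp_assoc_of_second_deg_zero, hT.comp_extClass, Ext.comp_zero]

/-- first cohomology of the dual of the additive group vanishes -/
theorem subsingleton_H_one_dual [IsReduced X]
    (hPic : ∀ L : (G).left.Modules, PicF.IsInvertible L → Nonempty (L ≅ Coh.structureModule (G).left)) :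
    Subsingleton (BigSite.H Kf X (CGrpSh2.dualSh Kf (CGrpSh2.Ga Kf X)) 1) :=
  subsingleton_H_one_homSh_of_ext _ _ (subsingleton_ext_one hPic)

end Ga

end Groth.L07.GaExt
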