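import Groth.Agent.L07.GaExt.ExtVanish
import Groth.Agent.S0233
import Groth.Prelude.Def_PicLoc

/-!
# Invertible modules on the affine line over a field
-/

universe u

open CategoryTheory CategoryTheory.Limits AlgebraicGeometry MonoidalCategory CartesianMonoidalCategory

set_option autoImplicit false
set_option backward.isDefEq.respectTransparency false
set_option backward.isDefEq.respectTransparency.types false
set_option linter.style.haveILetI false

noncomputable section

namespace Groth.L07.GaExt

/-- triviality of invertible modules passes along isomorphisms and retracts -/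
theorem pic_trivial_of_retract {Y Z : Scheme.{u}} (j : Z ⟶ Y) (k : Y ⟶ Z) (hkj : k ≫ j = 𝟙 Y)
    (h : ∀ L : Z.Modules, PicF.IsInvertible L → Nonempty (L ≅ Coh.structureModule Z))
    (L : Y.Modules) (hL : PicF.IsInvertible L) : Nonempty (L ≅ Coh.structureModule Y) :=
  (h _ (PicLoc.isInvertible_pullback j hL)).map fun e =>
    ((Scheme.Modules.pullbackId Y).app L).symm ≪≫ (Scheme.Modules.pullbackCongr hkj.symm).app L ≪≫
      ((Scheme.Modules.pullbackComp k j).app L).symm ≪≫ (Scheme.Modules.pullback k).mapIso e ≪≫
      PicLoc.pullbackStructureIso k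

/-- the affine line over a field has trivial Picard group -/
theorem pic_Ga_field (k : Type u) [Field k] (L : (Red.Ga (Spec (CommRingCat.of k))).left.Modules)
    (hL : PicF.IsInvertible L) : Nonempty (L ≅ Coh.structureModule _) := by
  let X := Spec (CommRingCat.of k)
  let T : Over X := 𝟙_ (Over X)
  haveI : IsAffine T.left := inferInstanceAs (IsAffine X)
  haveI : IsReduced T.left := inferInstanceAs (IsReduced X)
  obtain ⟨P, _, _, j, kk, hkj, -, ⟨e⟩⟩ := exists_polynomial_chart T
  let R := Polynomial Γ(T.left, ⊤)
  letI : Field Γ(T.left, ⊤) :=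
    ((Scheme.ΓSpecIso (CommRingCat.of k)).commRingCatIsoToRingEquiv.toMulEquiv.isField (Field.toIsField k)).toField
  have hR : ∀ L : (Spec (CommRingCat.of R)).Modules, PicF.IsInvertible L → Nonempty (L ≅ Coh.structureModule _) := by
    intro L hL
    exact pic_trivial_of_retract (⊤ : (Spec (CommRingCat.of R)).Opens).ι (Scheme.topIso _).inv
      (Scheme.topIso _).inv_hom_id (Groth.Agent.S0233.result R ⊤) L hL
  have hP := pic_trivial_of_retract e.inv e.hom e.hom_inv_id hR
  exact pic_trivial_of_retract (j ≫ snd T _).left (lift (toUnit _) (𝟙 _) ≫ kk).left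
    (by
      rw [← Over.comp_left, ← Over.id_left]
      congr 1
      rw [Category.assoc, reassoc_of% hkj, lift_snd]) hP L hL

end Groth.L07.GaExt
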