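import Groth.Agent.L07.GaExt.ExtVanish
import Groth.Agent.L28.GmH1.Assoc
import Groth.Agent.L18.Frame
import Groth.Agent.L00.RDerLES

/-!
# The invertible module of a section of a quotient by units
-/

universe u

open CategoryTheory CategoryTheory.Limits AlgebraicGeometry Opposite TopologicalSpace
open Groth.L27 (MV.oE MV.oHom MV.oTop)
open Groth.L21.Extend (rs IsGen)
open Groth.L28.GmH1 (gm rU)

set_option autoImplicit false
set_option backward.defeqAttrib.useBackward true
set_option backward.isDefEq.respectTransparency false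
set_option backward.isDefEq.respectTransparency.types false
set_option linter.style.haveILetI false
set_option maxHeartbeats 800000

noncomputable section

namespace Groth.L07.GaExt

local notation "Kf" => Scheme.fppfPrecoverage

variable {X : Scheme.{u}} {Sh : ShortComplex (BigSite.Ab Kf X)} (i₁ : Sh.X₁.obj ≅ GmPts.unitsPre X) (T : Over X)

/-- restriction to the small étale site of an object -/
abbrev toEt : BigSite.Ab Kf X ⥤ EtCoh.Ab T.left :=
  BigSite.pullBig Kf T.hom AddCommGrpCat.{u + 1} ⋙ EtFppf.aPush T.left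

/-- units restricted to an object -/
def pullUnitsIso : (BigSite.pullBig Kf T.hom AddCommGrpCat.{u + 1}).obj Sh.X₁ ≅ EtDl.GmF T.left :=
  (fullyFaithfulSheafToPresheaf _ _).preimageIso
    (Functor.isoWhiskerLeft (Over.map T.hom).op i₁ ≪≫ Groth.L07.GmFppf.unitsPullIso T.hom)

/-- the units of an object on its small étale site -/
def toEtGmIso : (toEt T).obj Sh.X₁ ≅ EtCoh.Gm T.left :=
  (EtFppf.aPush T.left).mapIso (pullUnitsIso i₁ T) ≪≫ Groth.L07.GmFppf.aPushGmIso T.left

/-- the first map -/
def etF : EtCoh.Gm T.left ⟶ (toEt T).obj Sh.X₂ := (toEtGmIso i₁ T).inv ≫ (toEt T).map Sh.f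

/-- the second map -/
abbrev etG : (toEt T).obj Sh.X₂ ⟶ (toEt T).obj Sh.X₃ := (toEt T).map Sh.g

theorem etF_etG : etF i₁ T ≫ etG (Sh := Sh) T = 0 := by
  haveI : (BigSite.pullBig Kf T.hom AddCommGrpCat.{u + 1}).Additive :=
    (BigSite.bigAdj Kf T.hom AddCommGrpCat.{u + 1}).left_adjoint_additive
  rw [etF, Category.assoc, etG, ← Functor.map_comp, Sh.zero, Functor.map_zero, comp_zero]

theorem shortExact_et (hSh : Sh.ShortExact) :
    (ShortComplex.mk (etF i₁ T) (etG (Sh := Sh) T) (etF_etG i₁ T)).ShortExact := by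
  let : HasDerivedCategory (EtFppf.AbF T.left) := HasDerivedCategory.standard _
  let M := BigSite.pullBig Kf T.hom AddCommGrpCat.{u + 1}
  let R := EtFppf.aPush T.left
  haveI : PreservesFiniteLimits R :=
    haveI := (EtFppf.aAdj T.left).rightAdjoint_preservesLimits
    inferInstance
  have hM : (Sh.map M).ShortExact := hSh.map_of_exact M
  haveI := hM.mono_f
  have h1 : IsZero ((EtFppf.RaPush T.left 1).obj (M.obj Sh.X₁)) :=
    (Groth.L07.GmFppf.isZero_RaPush_units T.left 1 one_pos).of_iso
      ((EtFppf.RaPush T.left 1).mapIso (pullUnitsIso i₁ T))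
  haveI : Epi (R.map (Sh.map M).g) := by
    haveI := Groth.L00.RDerLES.epi_map_g R hM 0 h1
    rw [← NatIso.naturality_1 R.rightDerivedZeroIsoSelf (Sh.map M).g]
    infer_instance
  have hR : ((Sh.map M).map R).ShortExact :=
    { exact := hM.exact.map_of_mono_of_preservesKernel R inferInstance inferInstance
      mono_f := inferInstanceAs (Mono (R.map (Sh.map M).f))
      epi_g := inferInstanceAs (Epi (R.map (Sh.map M).g)) }
  let S₂ : ShortComplex (EtCoh.Ab T.left) := ShortComplex.mk (etF i₁ T) (etG (Sh := Sh) T) (etF_etG i₁ T)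
  exact ShortComplex.shortExact_of_iso (S₂ := S₂)
    (ShortComplex.isoMk (S₁ := (Sh.map M).map R) (S₂ := S₂) (toEtGmIso i₁ T) (Iso.refl _) (Iso.refl _)
      (show (toEtGmIso i₁ T).hom ≫ etF i₁ T = _ ≫ 𝟙 _ by rw [etF, Iso.hom_inv_id_assoc, Category.comp_id]; rfl)
      (by simp; rfl)) hR

/-- an open as an object -/
abbrev obO (O : T.left.Opens) : Over X := (Over.map T.hom).obj ((EtFppf.a T.left).obj (MV.oE O))

/-- the whole object -/
abbrev obT : Over X := (Over.map T.hom).obj ((EtFppf.a T.left).obj (EtCoh.top T.left))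

/-- it is the object -/
def obTIso : obT T ≅ T := Over.isoMk (Iso.refl _) (by simp)

/-- a section over the object on its small étale site -/
def secTop (q : Sh.X₃.obj.obj (op T)) : ((toEt T).obj Sh.X₃).obj.obj (op (EtCoh.top T.left)) :=
  Sh.X₃.obj.map (obTIso T).hom.op q

variable {T} {T' : Over X} (z : T' ⟶ T)

/-- the morphism of opens -/
def obMap (O : T.left.Opens) : obO T' (z.left ⁻¹ᵁ O) ⟶ obO T O :=
  Over.homMk (z.left ∣_ O) (by
    show (z.left ∣_ O) ≫ O.ι ≫ T.hom = (z.left ⁻¹ᵁ O).ι ≫ T'.hom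
    rw [morphismRestrict_ι_assoc, Over.w z])

theorem etF_natural (O : T.left.Opens) (a : Γ(T.left, O)ˣ) :
    Sh.X₂.obj.map (obMap z O).op ((etF i₁ T).hom.app (op (MV.oE O)) (gm a)) =
      (etF i₁ T').hom.app (op (MV.oE (z.left ⁻¹ᵁ O))) (gm (Units.map (z.left.app O).hom.toMonoidHom a)) := by
  refine (NatTrans.naturality_apply Sh.f.hom (obMap z O).op _).symm.trans (congrArg (Sh.f.hom.app _) ?_)
  refine (NatTrans.naturality_apply i₁.inv (obMap z O).op (gm a)).symm.trans (congrArg (i₁.inv.app _) ?_)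
  refine ULift.ext _ _ (Additive.toMul.injective (Units.ext ?_))
  show (z.left ∣_ O).appTop (T.left.presheaf.map (homOfLE (O.ι_image_le ⊤)).op (a : Γ(T.left, O))) =
    T'.left.presheaf.map (homOfLE ((z.left ⁻¹ᵁ O).ι_image_le ⊤)).op (z.left.app O (a : Γ(T.left, O)))
  rw [show (z.left ∣_ O).appTop = (z.left ∣_ O).app ⊤ from rfl, morphismRestrict_app]
  refine ConcreteCategory.congr_hom (?_ : T.left.presheaf.map (homOfLE (O.ι_image_le ⊤)).op ≫
    (z.left.app (O.ι ''ᵁ ⊤) ≫ T'.left.presheaf.map _) = z.left.app O ≫ T'.left.presheaf.map _) (a : Γ(T.left, O))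
  rw [← Category.assoc, Scheme.Hom.naturality, Category.assoc]
  refine congrArg (z.left.app O ≫ ·) ?_
  exact (Functor.map_comp _ _ _).symm.trans (congrArg _ (Subsingleton.elim _ _))

include i₁ in
/-- A section of a quotient by units has an invertible module which is trivial exactly when the section lifts,
and which becomes trivial on objects killing the section. -/
theorem exists_module_of_section (hSh : Sh.ShortExact) (q : Sh.X₃.obj.obj (op T)) :
    ∃ L : T.left.Modules, PicF.IsInvertible L ∧
      (Nonempty (L ≅ Coh.structureModule T.left) → ∃ s, Sh.g.hom.app (op T) s = q) ∧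
      ∀ (T' : Over X) (z : T' ⟶ T), Sh.X₃.obj.map z.op q = 0 →
        Nonempty ((Scheme.Modules.pullback z.left).obj L ≅ Coh.structureModule T'.left) := by
  obtain ⟨L, hL, hA⟩ := Groth.L28.GmH1.exists_assoc_module (shortExact_et i₁ T hSh) (secTop T q)
  refine ⟨L, hL, fun hiso => ?_, fun T' z hz => ?_⟩
  · obtain ⟨y, hy⟩ := (Groth.L28.GmH1.exists_iff_iso (shortExact_et i₁ T hSh) hA
      Groth.L28.GmH1.assoc_zero).2 hiso
    refine ⟨- Sh.X₂.obj.map (obTIso T).inv.op y, ?_⟩
    have hy' : Sh.g.hom.app (op (obT T)) y = - Sh.X₃.obj.map (obTIso T).hom.op q := hy.trans (zero_sub _)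
    rw [map_neg, NatTrans.naturality_apply Sh.g.hom (obTIso T).inv.op, hy', map_neg, neg_neg,
      ← ConcreteCategory.comp_apply, ← Functor.map_comp, ← op_comp, Iso.inv_hom_id, op_id, CategoryTheory.Functor.map_id]
    rfl
  · obtain ⟨ι, N, s, e, hcov, hs, he, htr⟩ := hA
    let L' := (Scheme.Modules.pullback z.left).obj L
    let N' : ι → T'.left.Opens := fun i => z.left ⁻¹ᵁ N i
    have he' : ∀ i, IsGen L' (N' i) (Groth.L18.Frame.pull z.left L (N i) (e i)) := fun i =>
      Groth.L18.Frame.IsFrame.pullback z.left L (he i)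
    let s' : ∀ i, Sh.X₂.obj.obj (op (obO T' (N' i))) := fun i => Sh.X₂.obj.map (obMap z (N i)).op (s i)
    have hA' : Groth.L28.GmH1.Assoc (etF i₁ T') (etG (Sh := Sh) T') 0 L' := by
      refine ⟨ι, N', s', fun i => Groth.L18.Frame.pull z.left L (N i) (e i), fun x => hcov (z.left x),
        fun i => ?_, he', fun i j W hi hj c hc => ?_⟩
      · rw [map_zero]
        refine (NatTrans.naturality_apply Sh.g.hom (obMap z (N i)).op (s i)).trans ?_
        refine (congrArg (Sh.X₃.obj.map (obMap z (N i)).op) (hs i)).trans ?_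
        show Sh.X₃.obj.map (obMap z (N i)).op (Sh.X₃.obj.map ((Over.map T.hom).map ((EtFppf.a T.left).map
          (MV.oTop (N i)))).op (Sh.X₃.obj.map (obTIso T).hom.op q)) = 0
        let u : obO T' (N' i) ⟶ T' := Over.homMk (N' i).ι rfl
        rw [← ConcreteCategory.comp_apply, ← ConcreteCategory.comp_apply, ← Functor.map_comp, ← Functor.map_comp,
          ← op_comp, ← op_comp,
          show (obMap z (N i) ≫ (Over.map T.hom).map ((EtFppf.a T.left).map (MV.oTop (N i)))) ≫ (obTIso T).hom =
            u ≫ z from ?_, op_comp, Functor.map_comp, ConcreteCategory.comp_apply, hz, map_zero]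
        refine Over.OverMorphism.ext ?_
        show ((z.left ∣_ N i) ≫ (MV.oTop (N i)).left) ≫ 𝟙 _ = (N' i).ι ≫ z.left
        have h1 : (MV.oTop (N i)).left = (N i).ι := by
          have := MorphismProperty.Over.w (MV.oTop (N i))
          simpa using this
        rw [Category.comp_id, h1, morphismRestrict_ι]
      · let W₀ : T.left.Opens := N i ⊓ N j
        obtain ⟨a, ha⟩ := Groth.L28.GmH1.exists_unit_trans (he i) (he j) (inf_le_left : W₀ ≤ N i)
          (inf_le_right : W₀ ≤ N j)
        have h0 := congrArg (Sh.X₂.obj.map (obMap z W₀).op) (htr i j W₀ inf_le_left inf_le_right a ha)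
        have hW : W ≤ z.left ⁻¹ᵁ W₀ := le_inf hi hj
        let a' : Γ(T'.left, z.left ⁻¹ᵁ W₀)ˣ := Units.map (z.left.app W₀).hom.toMonoidHom a
        have hc' : c = rU hW a' := by
          refine Groth.L28.GmH1.trans_eq (he' i) hi hc ?_
          have h1 := congrArg (rs L' hW) (congrArg (Groth.L18.Frame.pull z.left L W₀) ha)
          rw [Groth.L18.Frame.pull_smul, ← Groth.L18.Frame.pull_rs z.left L (inf_le_left : W₀ ≤ N i),
            ← Groth.L18.Frame.pull_rs z.left L (inf_le_right : W₀ ≤ N j)] at h1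
          rw [Groth.L21.Extend.rs_smul, Groth.L21.Extend.rs_rs, Groth.L21.Extend.rs_rs] at h1
          exact h1
        rw [hc', ← Groth.L28.GmH1.res_gm]
        refine (Groth.L27.EtFlasque.res_nat (etF i₁ T') hW (gm a')).trans ?_
        refine (congrArg (Groth.L27.EtFlasque.res _ hW) ((etF_natural i₁ z W₀ a).symm.trans h0)).trans ?_
        have key : ∀ (k : ι) (hk : W₀ ≤ N k) (hk' : W ≤ N' k),
            Groth.L27.EtFlasque.res ((toEt T').obj Sh.X₂) hW (Sh.X₂.obj.map (obMap z W₀).op
              (Groth.L27.EtFlasque.res ((toEt T).obj Sh.X₂) hk (s k))) =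
              Groth.L27.EtFlasque.res ((toEt T').obj Sh.X₂) hk' (s' k) := fun k hk hk' => by
          show Sh.X₂.obj.map ((Over.map T'.hom).map ((EtFppf.a T'.left).map (MV.oHom hW))).op
              (Sh.X₂.obj.map (obMap z W₀).op (Sh.X₂.obj.map ((Over.map T.hom).map ((EtFppf.a T.left).map
                (MV.oHom hk))).op (s k))) =
            Sh.X₂.obj.map ((Over.map T'.hom).map ((EtFppf.a T'.left).map (MV.oHom hk'))).op
              (Sh.X₂.obj.map (obMap z (N k)).op (s k))
          rw [← ConcreteCategory.comp_apply, ← ConcreteCategory.comp_apply, ← ConcreteCategory.comp_apply,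
            ← Functor.map_comp, ← Functor.map_comp, ← Functor.map_comp, ← op_comp, ← op_comp, ← op_comp]
          refine congrArg (fun φ : obO T' W ⟶ obO T (N k) => Sh.X₂.obj.map φ.op (s k)) (Over.OverMorphism.ext ?_)
          refine (cancel_mono (N k).ι).1 ?_
          show (((T'.left.homOfLE hW) ≫ (z.left ∣_ W₀)) ≫ T.left.homOfLE hk) ≫ (N k).ι =
            ((T'.left.homOfLE hk') ≫ (z.left ∣_ N k)) ≫ (N k).ι
          simp only [Category.assoc, Scheme.homOfLE_ι, morphismRestrict_ι, Scheme.homOfLE_ι_assoc]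
          exact (Scheme.homOfLE_ι_assoc T'.left hk' z.left).symm
        refine (congrArg (Groth.L27.EtFlasque.res _ hW) (map_sub _ _ _)).trans ((map_sub _ _ _).trans ?_)
        exact congr_arg₂ (· - ·) (key j inf_le_right hj) (key i inf_le_left hi)
    refine (Groth.L28.GmH1.exists_iff_iso (shortExact_et i₁ T' hSh) hA' Groth.L28.GmH1.assoc_zero).1 ⟨0, ?_⟩
    rw [map_zero, sub_zero]

end Groth.L07.GaExt
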