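import Groth.Agent.L25.GaPts
import Groth.Agent.L07.GmFppf.Affine
import Mathlib.RingTheory.Polynomial.Nilpotent
import Mathlib.AlgebraicGeometry.Properties

/-!
# Units on affine spaces over reduced schemes are constant
-/

universe u

open CategoryTheory CategoryTheory.Limits MonoidalCategory CartesianMonoidalCategory MonObj AlgebraicGeometry Opposite

set_option autoImplicit false
set_option backward.isDefEq.respectTransparency false
set_option backward.isDefEq.respectTransparency.types false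
set_option linter.style.haveILetI false
set_option maxHeartbeats 800000

noncomputable section

namespace Groth.L07.GaExt

variable {X : Scheme.{u}}

/-- pullback of functions -/
abbrev fn {U V : Over X} (h : U ⟶ V) : Γ(V.left, ⊤) ⟶ Γ(U.left, ⊤) := h.left.appTop

theorem fn_comp {U V W : Over X} (h : U ⟶ V) (h' : V ⟶ W) (v : Γ(W.left, ⊤)) : fn (h ≫ h') v = fn h (fn h' v) :=
  GmPts.appTop_comp_apply h.left h'.left v

theorem fn_id {U : Over X} (v : Γ(U.left, ⊤)) : fn (𝟙 U) v = v := by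
  show (𝟙 U.left : U.left ⟶ U.left).appTop v = v
  rw [Scheme.Hom.id_appTop]; rfl

/-- units over `T × Ga` come from `T` -/
def HC (T : Over X) : Prop :=
  ∀ v : Γ((T ⊗ Red.Ga X).left, ⊤), IsUnit v →
    v = fn (fst T (Red.Ga X)) (fn (lift (𝟙 T) (1 : T ⟶ Red.Ga X)) v)

theorem exists_polynomial_chart (T : Over X) [IsAffine T.left] [IsReduced T.left] :
    ∃ (P : Over X) (_ : IsAffine P.left) (_ : IsReduced P.left) (j : P ⟶ T ⊗ Red.Ga X) (k : T ⊗ Red.Ga X ⟶ P),
      k ≫ j = 𝟙 _ ∧ (∀ u : Γ(P.left, ⊤), IsUnit u → ∃ a, u = fn (j ≫ fst T (Red.Ga X)) a) ∧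
        Nonempty (P.left ≅ Spec (CommRingCat.of (Polynomial Γ(T.left, ⊤)))) := by
  let A : CommRingCat.{u} := Γ(T.left, ⊤)
  haveI : _root_.IsReduced A := inferInstance
  haveI : _root_.IsReduced (Polynomial A) := ⟨fun f hf => Polynomial.ext fun i =>
    ((Polynomial.isNilpotent_iff.1 hf i).eq_zero).trans (Polynomial.coeff_zero i).symm⟩
  let A' : CommRingCat.{u} := CommRingCat.of (Polynomial A)
  haveI : _root_.IsReduced A' := inferInstanceAs (_root_.IsReduced (Polynomial A))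
  let pA : A ⟶ A' := CommRingCat.ofHom Polynomial.C
  let P : Over X := Over.mk ((Spec.map pA ≫ T.left.isoSpec.inv) ≫ T.hom)
  haveI hP : IsAffine P.left := inferInstanceAs (IsAffine (Spec A'))
  let pr : P ⟶ T := Over.homMk (Spec.map pA ≫ T.left.isoSpec.inv) rfl
  let x : Γ(P.left, ⊤) := (Scheme.ΓSpecIso A').inv Polynomial.X
  let j : P ⟶ T ⊗ Red.Ga X := lift pr (Groth.L25.GaPts.ptOfElt x)
  let Y : Over X := T ⊗ Red.Ga X
  let φ : A' ⟶ Γ(Y.left, ⊤) := CommRingCat.ofHom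
    (Polynomial.eval₂RingHom (fn (fst T (Red.Ga X))).hom (Red.gaFn (snd T (Red.Ga X))))
  let k₀ : Y.left ⟶ Spec A' := Y.left.toSpecΓ ≫ Spec.map φ
  have hk₀ : (Scheme.ΓSpecIso A').inv ≫ k₀.appTop = φ := by
    show Groth.L07.GmFppf.rh k₀ = φ
    rw [Groth.L07.GmFppf.rh_comp_specMap, Groth.L07.GmFppf.rh, Scheme.toSpecΓ_appTop, Iso.inv_hom_id]
    exact Category.comp_id φ
  have hk₁ : k₀ ≫ Spec.map pA = Y.left.toSpecΓ ≫ Spec.map (fn (fst T (Red.Ga X))) := by
    show (Y.left.toSpecΓ ≫ Spec.map φ) ≫ Spec.map pA = _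
    rw [Category.assoc, ← Spec.map_comp]
    congr 2
    exact CommRingCat.hom_ext (RingHom.ext fun a => Polynomial.eval₂_C _ _)
  have hk₂ : k₀ ≫ Spec.map pA ≫ T.left.isoSpec.inv = (fst T (Red.Ga X)).left := by
    rw [← Category.assoc, hk₁, Category.assoc]
    exact (Scheme.toSpecΓ_naturality_assoc _ _).symm.trans (by rw [← Scheme.isoSpec_hom, Iso.hom_inv_id, Category.comp_id])
  let k : Y ⟶ P := Over.homMk k₀ (by
    show k₀ ≫ (Spec.map pA ≫ T.left.isoSpec.inv) ≫ T.hom = Y.hom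
    rw [← Category.assoc, hk₂]
    exact Over.w (fst T (Red.Ga X)))
  have hkx : fn k x = Red.gaFn (snd T (Red.Ga X)) := by
    show ((Scheme.ΓSpecIso A').inv ≫ k₀.appTop) Polynomial.X = _
    rw [hk₀]
    exact Polynomial.eval₂_X _ _
  refine ⟨P, hP, ?_, j, k, ?_, fun u hu => ?_, ⟨Iso.refl _⟩⟩
  · exact inferInstanceAs (IsReduced (Spec A'))
  · refine CartesianMonoidalCategory.hom_ext _ _ ?_ ?_
    · rw [Category.assoc, lift_fst, Category.id_comp]
      exact Over.OverMorphism.ext hk₂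
    · rw [Category.assoc, lift_snd, Category.id_comp, Groth.L25.GaPts.ptOfElt_comp, show k.left.appTop x = _ from hkx,
        Groth.L25.GaPts.ptOfElt_gaFn]
  · let u' : Polynomial A := (Scheme.ΓSpecIso A').hom u
    have hu' : IsUnit u' := hu.map (Scheme.ΓSpecIso A').hom.hom
    obtain ⟨a, ha⟩ : ∃ a : A, u' = Polynomial.C a := ⟨u'.coeff 0, Polynomial.ext fun n => by
      cases n with
      | zero => rw [Polynomial.coeff_C_zero]
      | succ n =>
        rw [Polynomial.coeff_C_succ]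
        exact ((Polynomial.isUnit_iff_coeff_isUnit_isNilpotent.1 hu').2 (n + 1) (by omega)).eq_zero⟩
    refine ⟨a, ?_⟩
    rw [show j ≫ fst T (Red.Ga X) = pr from lift_fst _ _]
    show u = (Spec.map pA ≫ T.left.isoSpec.inv).appTop a
    rw [Scheme.Hom.comp_appTop, ConcreteCategory.comp_apply]
    have h1 : T.left.isoSpec.inv.appTop = (Scheme.ΓSpecIso A).inv := by
      have h := congrArg (fun m : Spec A ⟶ Spec A => m.appTop) T.left.isoSpec.inv_hom_id
      simp only [Scheme.Hom.comp_appTop, Scheme.Hom.id_appTop, Scheme.isoSpec_hom] at h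
      refine (cancel_epi (Scheme.ΓSpecIso A).hom).1 (((congrArg (· ≫ T.left.isoSpec.inv.appTop)
        (Scheme.toSpecΓ_appTop T.left)).symm.trans h).trans (Iso.hom_inv_id _).symm)
    rw [h1, ← ConcreteCategory.comp_apply, ← Scheme.ΓSpecIso_inv_naturality]
    refine ((Scheme.ΓSpecIso A').hom_inv_id_apply u).symm.trans ?_
    exact congrArg _ ha

theorem hc_of_retract {T T' : Over X} (j : T' ⟶ T) (k : T ⟶ T') (hkj : k ≫ j = 𝟙 T) (h : HC T') : HC T := by
  intro v hv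
  let j' : T' ⊗ Red.Ga X ⟶ T ⊗ Red.Ga X := lift (fst _ _ ≫ j) (snd _ _)
  let k' : T ⊗ Red.Ga X ⟶ T' ⊗ Red.Ga X := lift (fst _ _ ≫ k) (snd _ _)
  have e1 : k' ≫ j' = 𝟙 _ := by
    refine CartesianMonoidalCategory.hom_ext _ _ ?_ ?_
    · rw [Category.assoc, lift_fst, lift_fst_assoc, Category.assoc, hkj, Category.comp_id, Category.id_comp]
    · rw [Category.assoc, lift_snd, lift_snd, Category.id_comp]
  have e2 : k ≫ lift (𝟙 T') (1 : T' ⟶ Red.Ga X) ≫ j' = lift (𝟙 T) 1 := by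
    refine CartesianMonoidalCategory.hom_ext _ _ ?_ ?_
    · rw [Category.assoc, Category.assoc, lift_fst, lift_fst_assoc, Category.id_comp, hkj, lift_fst]
    · rw [Category.assoc, Category.assoc, lift_snd, lift_snd, lift_snd, MonObj.comp_one]
  have e3 : k' ≫ fst T' (Red.Ga X) = fst T (Red.Ga X) ≫ k := lift_fst _ _
  have h1 := congrArg (fn k') (h (fn j' v) (hv.map (fn j').hom))
  rw [← fn_comp, e1, fn_id, ← fn_comp, ← fn_comp, ← fn_comp] at h1
  simp only [Category.assoc] at h1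
  rw [reassoc_of% e3, e2] at h1
  exact h1.trans (fn_comp _ _ _)

theorem hc_of_affine (T : Over X) [IsAffine T.left] [IsReduced T.left] : HC T := by
  intro v hv
  obtain ⟨P, _, _, j, k, hkj, hP, -⟩ := exists_polynomial_chart T
  obtain ⟨a, ha⟩ := hP (fn j v) (hv.map (fn j).hom)
  have h1 : v = fn (fst T (Red.Ga X)) a := by
    have := congrArg (fn k) ha
    rw [← fn_comp, hkj, fn_id, ← fn_comp, ← Category.assoc, hkj, Category.id_comp] at this
    exact this
  rw [h1, ← fn_comp (lift (𝟙 T) (1 : T ⟶ Red.Ga X)), lift_fst, fn_id]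

theorem hc_prod (T : Over X) [IsAffine T.left] [IsReduced T.left] : HC (T ⊗ Red.Ga X) := by
  obtain ⟨P, _, _, j, k, hkj, -⟩ := exists_polynomial_chart T
  exact hc_of_retract j k hkj (hc_of_affine P)

/-- units on the square of the additive group of a reduced scheme are constant -/
theorem units_const [IsReduced X] (v : Γ((Red.Ga X ⊗ Red.Ga X).left, ⊤)) (hv : IsUnit v) :
    v = fn (toUnit (Red.Ga X ⊗ Red.Ga X)) (fn (lift (1 : 𝟙_ (Over X) ⟶ Red.Ga X) 1) v) := by
  let G := Red.Ga X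
  let w := fn (toUnit (G ⊗ G)) (fn (lift (1 : 𝟙_ (Over X) ⟶ G) 1) v)
  let q := (G ⊗ G).hom
  refine TopCat.Sheaf.eq_of_locally_eq' (G ⊗ G).left.sheaf (fun U : X.affineOpens => q ⁻¹ᵁ U.1) ⊤
    (fun U => homOfLE le_top) ?_ v w fun U => ?_
  · intro x _
    obtain ⟨U, hU, hxU, -⟩ := exists_isAffineOpen_mem_and_subset (X := X) (x := q x) (U := ⊤) trivial
    exact TopologicalSpace.Opens.mem_iSup.2 ⟨⟨U, hU⟩, hxU⟩
  let W : Over X := Over.mk U.1.ι
  haveI : IsAffine W.left := U.2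
  haveI : IsReduced W.left := isReduced_of_isOpenImmersion U.1.ι
  let a : (W ⊗ G) ⊗ G ⟶ G ⊗ G := lift (fst _ _ ≫ snd W G) (snd _ _)
  have h1 := hc_prod W (fn a v) (hv.map (fn a).hom)
  have h2 := hc_of_affine W (fn (lift (𝟙 (W ⊗ G)) (1 : W ⊗ G ⟶ G)) (fn a v))
    ((hv.map (fn a).hom).map (fn (lift (𝟙 (W ⊗ G)) (1 : W ⊗ G ⟶ G))).hom)
  rw [h2, ← fn_comp, ← fn_comp, ← fn_comp, ← fn_comp] at h1
  let O := q ⁻¹ᵁ U.1
  let Oo : Over X := Over.mk (O.ι ≫ q)
  let ι' : Oo ⟶ G ⊗ G := Over.homMk O.ι rfl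
  let b : Oo ⟶ W := Over.homMk (q ∣_ U.1) (morphismRestrict_ι q U.1)
  let c : Oo ⟶ (W ⊗ G) ⊗ G := lift (lift b (ι' ≫ fst G G)) (ι' ≫ snd G G)
  have hc : c ≫ a = ι' := by
    refine CartesianMonoidalCategory.hom_ext _ _ ?_ ?_ <;> simp [a, c]
  have key : fn ι' v = fn ι' w := by
    rw [← hc, fn_comp, h1]
    show _ = fn (c ≫ a) (fn (toUnit (G ⊗ G)) (fn (lift (1 : 𝟙_ (Over X) ⟶ G) 1) v))
    rw [← fn_comp, ← fn_comp, ← fn_comp]
    refine congrArg (fun m => fn m v) (CartesianMonoidalCategory.hom_ext _ _ ?_ ?_) <;>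
      simp [a, c, G, MonObj.comp_one]
  have h3 : ∀ y, fn ι' y = O.topIso.inv ((G ⊗ G).left.presheaf.map (homOfLE le_top : O ⟶ ⊤).op y) := fun y => by
    show O.ι.appTop y = _
    rw [Scheme.Opens.ι_appTop]
    rw [← ConcreteCategory.comp_apply, Scheme.Opens.topIso_inv, ← Functor.map_comp]
    rfl
  rw [h3, h3] at key
  exact O.topIso.commRingCatIsoToRingEquiv.symm.injective key

end Groth.L07.GaExt
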